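import Groth.Agent.EtCdp5.Proper
import Groth.Agent.EtFound.NoethConstr
import Groth.Agent.EtFound.StalkSet
import Groth.Agent.ProConsLib.Basic

/-! vanishing for sheaves with small support -/

set_option autoImplicit false
set_option linter.unusedSectionVars false
set_option linter.style.haveILetI false
set_option backward.isDefEq.respectTransparency false
set_option backward.isDefEq.respectTransparency.types false

universe u

open CategoryTheory CategoryTheory.Limits AlgebraicGeometry Opposite Abelian

noncomputable section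

namespace Groth.Agent.EtCdp5

open Groth.Agent.EtFound Groth.Agent.GalCd5

attribute [local instance] EtFound.pull_preservesFiniteLimits

section order

attribute [local instance] specializationOrder
attribute [-instance] Subtype.preorder Subtype.partialOrder

/-- the dimension of a closed set is the largest dimension of the closure of one of its points -/
theorem dim_le_of_closures {X : Type u} [TopologicalSpace X] [QuasiSober X] [T0Space X] {Z : Set X} (hZ : IsClosed Z)
    {m : WithBot ℕ∞} (h : ∀ x ∈ Z, topologicalKrullDim (closure ({x} : Set X) : Set X) ≤ m) :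
    topologicalKrullDim Z ≤ m := by
  haveI : QuasiSober Z := hZ.isClosedEmbedding_subtypeVal.quasiSober
  rw [DimLift.topologicalKrullDim_eq_points]
  refine iSup_le fun l => le_trans ?_ (h l.last.1 l.last.2)
  haveI : QuasiSober (closure ({l.last.1} : Set X) : Set X) :=
    isClosed_closure.isClosedEmbedding_subtypeVal.quasiSober
  rw [DimLift.topologicalKrullDim_eq_points]
  have hle : ∀ i, (l i).1 ∈ closure ({l.last.1} : Set X) := fun i =>
    specializes_iff_mem_closure.1 ((subtype_specializes_iff _ _).1 (l.strictMono.monotone (Fin.le_last i) : l.last ⤳ l i))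
  let l' : LTSeries (closure ({l.last.1} : Set X) : Set X) :=
    LTSeries.mk l.length (fun i => ⟨(l i).1, hle i⟩) fun i j hij =>
      DimLift.lt_iff_specializes.2 ⟨(subtype_specializes_iff _ _).2
          ((subtype_specializes_iff (l j) (l i)).1 (DimLift.lt_iff_specializes.1 (l.strictMono hij)).1),
        fun e => (DimLift.lt_iff_specializes.1 (l.strictMono hij)).2
          (Subtype.ext (congrArg (fun t : (closure ({l.last.1} : Set X) : Set X) => t.1) e : (l i).1 = (l j).1))⟩
  exact Order.LTSeries.length_le_krullDim l'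

end order

/-- the support of a constructible sheaf and its closure -/
theorem exists_specializes_of_mem_closure_support {X : Scheme.{u}} [IsNoetherian X] (C : EtCoh.Ab X)
    (hC : EtPBC.IsConstructible C) {y : X} (hy : y ∈ closure (stalkSet C (fun A => Nontrivial A))) :
    ∃ z ∈ stalkSet C (fun A => Nontrivial A), z ⤳ y := by
  have hP : ∀ A B : Type (u + 1), Nonempty (A ≃ B) → Nontrivial A → Nontrivial B := fun A B ⟨e⟩ _ =>
    e.symm.nontrivial
  obtain ⟨n, E, hE, -, hu⟩ := exists_pieces ((isConstructible_iff_adaptedStrata X C).1 hC)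
  have hS : stalkSet C (fun A => Nontrivial A) = ⋃ i, (E i ∩ stalkSet C (fun A => Nontrivial A)) := by
    rw [← Set.iUnion_inter, hu, Set.univ_inter]
  rw [hS, closure_iUnion_of_finite] at hy
  obtain ⟨i, hi⟩ := Set.mem_iUnion.1 hy
  obtain ⟨T, g, hg, hr, hT⟩ := hE i
  haveI : IsLocallyNoetherian T := LocallyOfFiniteType.isLocallyNoetherian g
  haveI : TopologicalSpace.NoetherianSpace T := g.isEmbedding.isInducing.noetherianSpace
  haveI : IsNoetherian T := {}
  let O : T.Opens := ⟨g.base ⁻¹' stalkSet C (fun A => Nontrivial A), by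
    rw [preimage_stalkSet g hP]
    exact isOpen_stalkSet hT hP⟩
  haveI : TopologicalSpace.NoetherianSpace O.toScheme := O.ι.isOpenEmbedding.isInducing.noetherianSpace
  have hrange : Set.range (fun t : O.toScheme => g.base (O.ι.base t)) =
      E i ∩ stalkSet C (fun A => Nontrivial A) := by
    rw [← hr]
    ext x
    exact ⟨fun ⟨t, ht⟩ => ht ▸ ⟨⟨_, rfl⟩, t.2⟩, fun ⟨⟨t, ht⟩, hx⟩ =>
      ⟨⟨t, show g.base t ∈ _ by rw [ht]; exact hx⟩, ht⟩⟩
  obtain ⟨t, ht⟩ := ProConsLib.exists_specializes_of_mem_closure_range
    (g := fun t : O.toScheme => g.base (O.ι.base t))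
    ⟨g.base.hom.continuous.comp O.ι.base.hom.continuous, fun s _ _ => TopologicalSpace.NoetherianSpace.isCompact _⟩
    (hrange.symm ▸ hi)
  exact ⟨_, t.2, ht⟩

theorem isZero_of_mono_stalk {X : Scheme.{u}} {A B : EtCoh.Ab X} (g : A ⟶ B) [Mono g] {Ω : Type u} [Field Ω]
    [IsSepClosed Ω] (ξ : Spec (CommRingCat.of Ω) ⟶ X) (h : IsZero ((EtCoh.stalk ξ).obj B)) :
    IsZero ((EtCoh.stalk ξ).obj A) := by
  haveI : Subsingleton ((EtCoh.stalk ξ).obj B) := AddCommGrpCat.subsingleton_of_isZero h
  have hi := (mono_iff_stalks g).1 inferInstance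
  refine @AddCommGrpCat.isZero_of_subsingleton _ ⟨fun a b => ?_⟩
  exact (hi Ω ξ) (Subsingleton.elim _ _)

/-- as `GalCd5.subsingleton_H_of_constructible`, with approximations no bigger than the sheaf -/
theorem subsingleton_H_of_constructible_sub {X : Scheme.{u}} [IsNoetherian X] {ℓ : ℕ} (hℓ : ℓ.Prime) (q : ℕ)
    (G : EtCoh.Ab X) (hG : EtDepth.IsLTorsion ℓ G)
    (h : ∀ (C : EtCoh.Ab X) (a : ℕ), EtPBC.IsConstructible C → (ℓ ^ a) • 𝟙 C = 0 →
      (∀ (g : C ⟶ G), Mono g → Subsingleton (EtCoh.H X C q))) : Subsingleton (EtCoh.H X G q) := by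
  haveI := EtLC12.QcqsAcyclic.preservesColimitsOfShape_HF X q (TorsionInd.J G)
  let hc := isColimitOfPreserves (EtCoh.HF X q) (TorsionInd.isColimit G (isTorsion_of_isLTorsion hℓ hG))
  refine subsingleton_of_forall_eq 0 fun ξ => ?_
  obtain ⟨j, a, rfl⟩ := Concrete.isColimit_exists_rep _ hc ξ
  obtain ⟨n, hn, hC⟩ := exists_killedBy X (TorsionInd.isConstructible_D G j)
  obtain ⟨e, he⟩ := exists_pow_kills_hom hℓ hG n hn hC j.hom
  let C := (TorsionInd.D G).obj j
  let d : C ⟶ G := j.hom
  have hQ : EtPBC.IsConstructible (Abelian.coimage d) :=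
    isConstructible_of_epi (TorsionInd.isConstructible_D G j) (Abelian.coimage.π d)
  have hk : (ℓ ^ e) • 𝟙 (Abelian.coimage d) = 0 := by
    rw [← cancel_epi (Abelian.coimage.π d), comp_zero, Preadditive.comp_nsmul, Category.comp_id,
      ← cancel_mono (Abelian.factorThruCoimage d), zero_comp, Preadditive.nsmul_comp, Abelian.coimage.fac]
    exact he
  haveI := h _ e hQ hk (Abelian.factorThruCoimage d) inferInstance
  have hfac : (EtCoh.HF X q).map ((TorsionInd.cocone G).ι.app j) =
      (EtCoh.HF X q).map (Abelian.coimage.π d) ≫ (EtCoh.HF X q).map (Abelian.factorThruCoimage d) := by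
    rw [← Functor.map_comp, Abelian.coimage.fac]
    rfl
  refine (ConcreteCategory.congr_hom hfac a).trans ?_
  refine (congrArg ((EtCoh.HF X q).map (Abelian.factorThruCoimage d)) (Subsingleton.elim
    (α := EtCoh.H X (Abelian.coimage d) q) ((EtCoh.HF X q).map (Abelian.coimage.π d) a) 0)).trans ?_
  exact map_zero _

/-- a `p`-torsion sheaf on a proper scheme supported in dimension `≤ m` has no cohomology above `m` -/
theorem subsingleton_H_of_support {k : Type u} [Field k] [IsSepClosed k] (p : ℕ) [Fact p.Prime] [CharP k p]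
    {X : Scheme.{u}} (f : X ⟶ Spec (CommRingCat.of k)) [IsProper f] (G : EtCoh.Ab X)
    (hG : EtDepth.IsLTorsion p G) (m : ℕ)
    (hsupp : ∀ (Ω : Type u) [Field Ω] [IsSepClosed Ω] (ξ : Spec (CommRingCat.of Ω) ⟶ X),
      ¬ IsZero ((EtCoh.stalk ξ).obj G) →
      topologicalKrullDim (closure ({ξ.base (default : Spec (CommRingCat.of Ω))} : Set X) : Set X) ≤ m)
    (q : ℕ) (hq : m < q) : Subsingleton (EtCoh.H X G q) := by
  haveI : IsLocallyNoetherian X := LocallyOfFiniteType.isLocallyNoetherian f
  haveI : CompactSpace X := QuasiCompact.compactSpace_of_compactSpace f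
  haveI : IsNoetherian X := {}
  refine subsingleton_H_of_constructible_sub (Fact.out : p.Prime) q G hG fun C a hC hk g _ => ?_
  let S := stalkSet C (fun A => Nontrivial A)
  let O : X.Opens := ⟨(closure S)ᶜ, isClosed_closure.isOpen_compl⟩
  haveI := EtFound.jCont O.ι
  haveI := (EtCoh.pullPushAdj O.ι).left_adjoint_additive
  haveI := (EtCoh.pullPushAdj (cIdeal O).subschemeι).left_adjoint_additive
  haveI : PreservesFiniteLimits (EtShriek.extZero O.ι) := EtFound.extZero_preservesFiniteLimits _
  haveI : (EtShriek.extZero O.ι).Additive := Functor.additive_of_preserves_binary_products _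
  refine subsingleton_of_open_closed O.ι (cIdeal O).subschemeι (by rw [range_cι, compl_compl, Scheme.Opens.range_ι])
    C q (subsingleton_H_of_isZero ((EtShriek.extZero O.ι).map_isZero ?_) q) ?_
  · refine (isZero_iff_stalks _).2 fun Ω _ _ ξ => ?_
    refine IsZero.of_iso ?_ ((stalkPullIso O.ι ξ).app C)
    have hmem : (ξ ≫ O.ι).base (default : Spec (CommRingCat.of Ω)) ∉ S := fun h =>
      (ξ.base (default : Spec (CommRingCat.of Ω))).2 (subset_closure h)
    rw [mem_stalkSet_iff (fun A B ⟨e⟩ (h : Nontrivial A) => @Equiv.nontrivial _ _ e.symm h), not_nontrivial_iff_subsingleton] at hmem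
    exact @AddCommGrpCat.isZero_of_subsingleton _ hmem
  · refine cdp_le_proper p ((cIdeal O).subschemeι ≫ f) (?_ : topologicalKrullDim (cIdeal O).subscheme ≤ m) _
      (GalCd5.isLTorsion_of_killed p a (GalCd5.killed_map _ C (p ^ a) hk)) q hq
    have hr : Set.range (cIdeal O).subschemeι.base = closure S := by rw [range_cι]; exact compl_compl _
    rw [(cIdeal O).subschemeι.isEmbedding.toHomeomorph.isHomeomorph.topologicalKrullDim_eq, hr]
    refine dim_le_of_closures isClosed_closure fun x hx => ?_
    obtain ⟨z, hz, hzx⟩ := exists_specializes_of_mem_closure_support C hC hx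
    obtain ⟨Ω, _, _, ξ, hξr, hξ⟩ := hz
    rw [range_point, Set.singleton_eq_singleton_iff] at hξr
    have hz' : ¬ IsZero ((EtCoh.stalk ξ).obj G) := fun h0 =>
      not_subsingleton _ (AddCommGrpCat.subsingleton_of_isZero (isZero_of_mono_stalk g ξ h0))
    refine le_trans ?_ (hsupp Ω ξ hz')
    rw [hξr]
    refine Topology.IsInducing.topologicalKrullDim_le (f := Set.inclusion ?_) (Topology.IsEmbedding.inclusion _).isInducing
    exact specializes_iff_closure_subset.1 hzx

end Groth.Agent.EtCdp5
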