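import Groth.Agent.EtCdp5.Acyclic
import Groth.Agent.EtLC12.EtZarCompare
import Groth.Agent.EtLC12.ZarLift
import Groth.Agent.QCoh.Tilde
import Groth.Agent.QCoh.Qcqs
import Groth.Agent.PnCoh.Unit
import Mathlib.AlgebraicGeometry.IdealSheaf.Subscheme
import Mathlib.Algebra.Category.ModuleCat.Sheaf.PullbackFree
import Groth.Agent.H23.RedSub
import Groth.Agent.EtLC12.GaLinear

/-! the étale cohomology of the sheaf of vanishing functions is that of an ideal sheaf -/

set_option autoImplicit false
set_option linter.unusedSectionVars false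
set_option linter.style.haveILetI false
set_option backward.isDefEq.respectTransparency false
set_option backward.isDefEq.respectTransparency.types false

universe u

open CategoryTheory CategoryTheory.Limits AlgebraicGeometry Opposite

noncomputable section

namespace Groth.Agent.EtCdp5

open Groth.Agent.EtLC12

variable {X : Scheme.{u}} (O : X.Opens)

/-- the reduced ideal sheaf of the complement -/
abbrev cIdeal : X.IdealSheafData :=
  Scheme.IdealSheafData.vanishingIdeal ⟨(O : Set X)ᶜ, O.2.isClosed_compl⟩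

theorem range_cι : Set.range (cIdeal O).subschemeι.base = (O : Set X)ᶜ := by
  erw [Scheme.IdealSheafData.range_subschemeι, Scheme.IdealSheafData.coe_support_vanishingIdeal]
  rfl

/-- `O_X → i_* O_W` -/
def toQuot : Coh.structureModule X ⟶ (Scheme.Modules.pushforward (cIdeal O).subschemeι).obj
    (Coh.structureModule (cIdeal O).subscheme) :=
  SheafOfModules.unitToPushforwardObjUnit (cIdeal O).subschemeι.toRingCatSheafHom

/-- the ideal module -/
abbrev idealMod : X.Modules := kernel (toQuot O)

theorem isQCoh_idealMod : Coh.IsQCoh (idealMod O) :=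
  QCoh.isQCoh_kernel (PnCoh.isQCoh_structureModule X)
    (QCoh.isQCoh_pushforward _ (PnCoh.isQCoh_structureModule _)) _

theorem app_eq_zero_iff [IsReduced (cIdeal O).subscheme] (V : X.Opens) (x : Γ(X, V)) :
    (cIdeal O).subschemeι.app V x = 0 ↔ X.basicOpen x ≤ O := by
  rw [← basicOpen_eq_bot_iff, ← Scheme.preimage_basicOpen]
  constructor
  · intro h z hz
    by_contra hzO
    obtain ⟨w, rfl⟩ : z ∈ Set.range (cIdeal O).subschemeι.base := by rw [range_cι]; exact hzO
    exact (h.le hz : _)
  · intro h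
    refine bot_unique fun w hw => ?_
    have h1 : (cIdeal O).subschemeι.base w ∈ (O : Set X)ᶜ := range_cι O ▸ Set.mem_range_self w
    exact absurd (h hw) h1

theorem topIso_mem_iff (V : X.Opens) (a : Γ(V.toScheme, ⊤)) :
    X.basicOpen (V.topIso.hom a) ≤ O ↔ a ∈ vanI O ((EtZar.zarToEt X).obj V) := by
  have h : V.ι ''ᵁ V.toScheme.basicOpen a = X.basicOpen (V.topIso.hom a) := by
    rw [Scheme.image_basicOpen]
    have e : (V.ι.appIso ⊤).inv a = X.presheaf.map (eqToHom (by simp)).op (V.topIso.hom a) := by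
      rw [Scheme.Opens.ι_appIso]
      simp [Scheme.Opens.topIso]
      erw [← ConcreteCategory.comp_apply, ← Functor.map_comp]
      simp
      rfl
    rw [e, Scheme.basicOpen_res]
    exact inf_eq_right.2 ((X.basicOpen_le _).trans (by simp))
  rw [← h]
  show _ ↔ V.toScheme.basicOpen a ≤ V.ι ⁻¹ᵁ O
  exact ⟨fun h z hz => h ⟨z, hz, rfl⟩, fun h z ⟨w, hw, e⟩ => e ▸ h hw⟩

/-- sections on an open -/
abbrev evalV (V : X.Opens) : X.Modules ⥤ AddCommGrpCat.{u} :=
  SheafOfModules.toSheaf X.ringCatSheaf ⋙ sheafToPresheaf (Opens.grothendieckTopology X) AddCommGrpCat.{u} ⋙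
    (evaluation _ _).obj (op V)

theorem ev_toQuot (V : X.Opens) (x : Γ(X, V)) :
    (((evalV V).map (toQuot O)).hom x : Γ((cIdeal O).subscheme, (cIdeal O).subschemeι ⁻¹ᵁ V)) =
      (cIdeal O).subschemeι.app V x := rfl

theorem kernel_sections (V : X.Opens) :
    Function.Injective ((evalV V).map (kernel.ι (toQuot O))).hom ∧
      ∀ x : Γ(X, V), (∃ z, ((evalV V).map (kernel.ι (toQuot O))).hom z = x) ↔ (cIdeal O).subschemeι.app V x = 0 := by
  let S := ShortComplex.mk (kernel.ι (toQuot O)) (toQuot O) (kernel.condition _)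
  haveI : (evalV (X := X) V).Additive := ⟨fun {_ _ _ _} => rfl⟩
  haveI : Mono S.f := inferInstanceAs (Mono (kernel.ι (toQuot O)))
  haveI : PreservesFiniteLimits (evalV (X := X) V) :=
    haveI : PreservesFiniteLimits (SheafOfModules.toSheaf X.ringCatSheaf) := inferInstance
    inferInstance
  haveI hm : Mono ((evalV V).map S.f) := inferInstance
  have hex := (ShortComplex.ab_exact_iff _).1
    ((ShortComplex.exact_of_f_is_kernel S (kernelIsKernel _)).map_of_mono_of_preservesKernel (evalV V) ‹_› inferInstance)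
  refine ⟨(AddCommGrpCat.mono_iff_injective _).1 hm, fun x => ⟨?_, fun h => hex x ((ev_toQuot O V x).trans h)⟩⟩
  rintro ⟨z, rfl⟩
  rw [← ev_toQuot]
  have h := congrArg (evalV V).map (kernel.condition (toQuot O))
  rw [Functor.map_comp, Functor.map_zero] at h
  exact ConcreteCategory.congr_hom h z

/-- multiplication by a global function -/
def mulK (a : Γ(X, ⊤)) : K O ⟶ K O :=
  ⟨{ app := fun V => AddCommGrpCat.ofHom (AddMonoidHom.mk'
      (fun x => ULift.up ⟨GaLinear.ρ V.unop a * x.down.1, Ideal.mul_mem_left _ _ x.down.2⟩)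
      fun x y => ULift.ext _ _ (Subtype.ext (mul_add _ _ _)))
     naturality := fun V W g => AddCommGrpCat.ext fun x => ULift.ext _ _ (Subtype.ext (by
       show GaLinear.ρ W.unop a * (g.unop.left.appTop.hom : Γ(V.unop.left, ⊤) →+* Γ(W.unop.left, ⊤)) x.down.1 =
         (g.unop.left.appTop.hom : Γ(V.unop.left, ⊤) →+* Γ(W.unop.left, ⊤)) (GaLinear.ρ V.unop a * x.down.1)
       rw [map_mul, GaLinear.ρ_nat g.unop a])) }⟩

theorem exists_resZarIso [EtZar.ZarCont X] :
    ∃ e : (EtZar.resZar X).obj (K O) ≅ (ZarLift.lift X).obj (Coh.toAb (idealMod O)), ∀ a : Γ(X, ⊤),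
      (EtZar.resZar X).map (mulK O a) ≫ e.hom = e.hom ≫ (ZarLift.lift X).map (Coh.smulAb (idealMod O) a) := by
  haveI : IsReduced (cIdeal O).subscheme := H23.RedSub.isReduced_vanishingIdeal _
  let ι := fun V => ((evalV V).map (kernel.ι (toQuot O))).hom
  have hto : ∀ (V : X.Opens) (a : vanI O ((EtZar.zarToEt X).obj V)), ∃ z, ι V z = V.topIso.hom a.1 := fun V a =>
    ((kernel_sections O V).2 _).2 ((app_eq_zero_iff O V _).2 ((topIso_mem_iff O V a.1).2 a.2))
  choose f hf using hto
  let e : ∀ V : X.Opens, ((EtZar.resZar X).obj (K O)).obj.obj (op V) ≃+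
      ((ZarLift.lift X).obj (Coh.toAb (idealMod O))).obj.obj (op V) := fun V =>
    AddEquiv.ofBijective (AddMonoidHom.mk' (fun a => ULift.up (f V a.down)) fun a b => congrArg ULift.up
      ((kernel_sections O V).1 (by
        show ι V _ = ι V _
        refine (hf V _).trans (Eq.trans ?_ (map_add (ι V) (f V a.down) (f V b.down)).symm)
        exact (map_add V.topIso.hom.hom a.down.1 b.down.1).trans (congrArg₂ (· + ·) (hf V _).symm (hf V _).symm))))
      ⟨fun a b h => ULift.ext _ _ (Subtype.ext ((ConcreteCategory.bijective_of_isIso V.topIso.hom).1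
        ((hf V a.down).symm.trans ((congrArg (ι V) (congrArg ULift.down h : f V a.down = f V b.down)).trans
          (hf V b.down))))), fun z => by
        obtain ⟨a, ha⟩ := (ConcreteCategory.bijective_of_isIso V.topIso.hom).2 (ι V z.down)
        have ha' : a ∈ vanI O ((EtZar.zarToEt X).obj V) := (topIso_mem_iff O V a).1
          ((app_eq_zero_iff O V _).1 (((kernel_sections O V).2 _).1 ⟨z.down, ha.symm⟩))
        exact ⟨ULift.up ⟨a, ha'⟩, congrArg ULift.up ((kernel_sections O V).1 ((hf V _).trans ha))⟩⟩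
  refine ⟨(fullyFaithfulSheafToPresheaf _ _).preimageIso (NatIso.ofComponents (fun V => AddEquiv.toAddCommGrpIso (e V.unop))
    fun {V W} g => AddCommGrpCat.ext fun a => congrArg ULift.up ((kernel_sections O W.unop).1 ?_)), fun r =>
      Sheaf.hom_ext (NatTrans.ext (funext fun V => AddCommGrpCat.ext fun x =>
        congrArg ULift.up ((kernel_sections O V.unop).1 ?_)))⟩
  swap
  · refine (hf V.unop _).trans ((GaLinear.topIso_mul V.unop r x.down.1).trans ?_)
    refine (congrArg (((X.presheaf.map (homOfLE le_top).op).hom : Γ(X, ⊤) →+* Γ(X, V.unop)) r * ·) (hf V.unop x.down).symm).trans ?_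
    exact ((kernel.ι (toQuot O)).app_smul _ _).symm
  refine (hf W.unop _).trans ?_
  refine Eq.trans ?_ (ConcreteCategory.congr_hom
    (((SheafOfModules.toSheaf X.ringCatSheaf).map (kernel.ι (toQuot O))).hom.naturality g) (f V.unop a.down)).symm
  refine Eq.trans ?_ (congrArg (X.presheaf.map g) (hf V.unop a.down)).symm
  exact ConcreteCategory.congr_hom
    (show (X.homOfLE (leOfHom g.unop)).appTop ≫ (Scheme.Opens.topIso (X := X) W.unop).hom =
      (Scheme.Opens.topIso (X := X) V.unop).hom ≫ X.presheaf.map g by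
      rw [Scheme.homOfLE_appTop]
      simp only [Scheme.Opens.topIso_hom]
      dsimp [Scheme.Opens.toScheme_presheaf_obj]
      rw [← Functor.map_comp, ← Functor.map_comp]
      rfl) a.down.1

theorem nonempty_resZarIso [EtZar.ZarCont X] :
    Nonempty ((EtZar.resZar X).obj (K O) ≅ (ZarLift.lift X).obj (Coh.toAb (idealMod O))) := by
  obtain ⟨e, -⟩ := exists_resZarIso O
  exact ⟨e⟩

/-- the comparison -/
theorem nonempty_H_K_equiv (n : ℕ) :
    Nonempty (EtCoh.H X (K O) n ≃+ Coh.HH X (idealMod O) n) := by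
  haveI : EtZar.ZarCont X := EtZarCompare.zarCont X
  obtain ⟨e₁⟩ := EtZarCompare.nonempty_H_addEquiv (K O) (isAffAcyclic_K O) n
  obtain ⟨e⟩ := nonempty_resZarIso O
  obtain ⟨e₂⟩ := ZarLift.nonempty_H_addEquiv (Coh.toAb (idealMod O)) n
  exact ⟨(e₁.trans ((Sheaf.functorH _ n).mapIso e).addCommGroupIsoToAddEquiv).trans e₂.symm⟩

end Groth.Agent.EtCdp5
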