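import Groth.Agent.EtCdp5.AS
import Groth.Agent.EtCdp5.HK
import Groth.Agent.EtFiltr5.Main
import Groth.Agent.GalCd5.Main
import Groth.Agent.FinEtTrace5.Main
import Groth.Agent.Shriek.Compactify
import Groth.Agent.LocImmLib.ZMT
import Groth.Agent.QCoh.AffineCohom
import Groth.Agent.EtFound.ExtZeroExact
import Groth.Agent.EtFound.ConstrAb
import Groth.Prelude.Def_Dix

/-! the cohomological `p`-dimension of a Noetherian scheme of characteristic `p` is at most `cd_qc + 1` -/

set_option autoImplicit false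
set_option linter.unusedSectionVars false
set_option linter.style.haveILetI false
set_option backward.isDefEq.respectTransparency false
set_option backward.isDefEq.respectTransparency.types false

universe u

open CategoryTheory CategoryTheory.Limits AlgebraicGeometry Opposite Abelian

noncomputable section

namespace Groth.Agent.EtCdp5

open Groth.Agent.EtFound Groth.Agent.EtLC12 Groth.Agent.GalCd5

attribute [local instance] EtFound.pull_preservesFiniteLimits

/-- quasi-coherent cohomology vanishes above `d` -/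
def QVan (X : Scheme.{u}) (d : ℕ) : Prop :=
  ∀ M : X.Modules, Coh.IsQCoh M → ∀ q : ℕ, d < q → Subsingleton (Coh.HH X M q)

theorem qvan_of_affineHom {X' X : Scheme.{u}} (f : X' ⟶ X) [IsAffineHom f] {d : ℕ} (h : QVan X d) : QVan X' d :=
  fun M hM q hq => by
    obtain ⟨e⟩ := QCoh.HH_push_of_isAffineHom f hM q
    haveI := h _ (QCoh.isQCoh_pushforward f hM) q hq
    exact e.toEquiv.subsingleton

theorem cast_eq_zero_of_hom {X' X : Scheme.{u}} (f : X' ⟶ X) {p : ℕ} (h0 : (p : Γ(X, ⊤)) = 0) :
    (p : Γ(X', ⊤)) = 0 := by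
  have := congrArg f.appTop h0
  simpa using this

theorem subsingleton_H_extZero_const {X U : Scheme.{u}} (p : ℕ) [Fact p.Prime] (h0 : (p : Γ(X, ⊤)) = 0) {d : ℕ}
    (hv : QVan X d) (j : U ⟶ X) [IsOpenImmersion j] [EtShriek.JCont j] (q : ℕ) (hq : d + 1 < q) :
    Subsingleton (EtCoh.H X ((EtShriek.extZero j).obj (EtCoh.const U (ZMod p))) q) := by
  obtain ⟨e⟩ := exists_extZero_const_iso p h0 j
  refine subsingleton_H_of_iso e.symm q ?_
  obtain ⟨n, rfl⟩ : ∃ n, q = n + 1 := ⟨q - 1, by omega⟩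
  have hK : ∀ m, d < m → Subsingleton (EtCoh.H X (K j.opensRange) m) := fun m hm => by
    obtain ⟨ε⟩ := nonempty_H_K_equiv j.opensRange m
    haveI := hv _ (isQCoh_idealMod j.opensRange) m hm
    exact ε.toEquiv.subsingleton
  refine subsingleton_of_forall_eq 0 fun x => ?_
  obtain ⟨z, rfl⟩ := Ext.covariant_sequence_exact₁ _ (shortExact_T j.opensRange p h0) x
    ((hK (n + 1) (by omega)).elim _ _) (rfl : n + 1 = n + 1)
  rw [(hK n (by omega)).elim z 0, Ext.zero_comp]

/-- the cohomology of every `j_! ℤ/p` on a scheme finite over `X` vanishes above `m` -/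
def SVan (p : ℕ) (X : Scheme.{u}) (m : ℕ) : Prop :=
  ∀ (X' : Scheme.{u}) (π : X' ⟶ X) [IsFinite π] (U : Scheme.{u}) (j : U ⟶ X') [IsOpenImmersion j]
    [EtShriek.JCont j] (q : ℕ), m < q → Subsingleton (EtCoh.H X' ((EtShriek.extZero j).obj (EtCoh.const U (ZMod p))) q)

theorem svan_of_finite {p : ℕ} {X' X : Scheme.{u}} (f : X' ⟶ X) [IsFinite f] {m : ℕ} (h : SVan p X m) :
    SVan p X' m := fun X'' π _ U j _ _ q hq => h X'' (π ≫ f) U j q hq

theorem svan_of_qvan {X : Scheme.{u}} (p : ℕ) [Fact p.Prime] (h0 : (p : Γ(X, ⊤)) = 0) {d : ℕ} (hv : QVan X d) :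
    SVan p X (d + 1) := fun _ π _ _ j _ _ q hq =>
  subsingleton_H_extZero_const p (cast_eq_zero_of_hom π h0) (qvan_of_affineHom π hv) j q hq

theorem subsingleton_H_of_isZero {X : Scheme.{u}} {G : EtCoh.Ab X} (h : IsZero G) (q : ℕ) :
    Subsingleton (EtCoh.H X G q) := by
  refine subsingleton_of_forall_eq 0 fun x => ?_
  rw [← Ext.comp_mk₀_id x, h.eq_of_src (𝟙 G) 0, Ext.mk₀_zero, Ext.comp_zero]

theorem subsingleton_H_of_chain {X Y : Scheme.{u}} (F : EtCoh.Ab X ⥤ EtCoh.Ab Y) [F.Additive]
    [PreservesFiniteLimits F] [PreservesFiniteColimits F] (q : ℕ) {L C : EtCoh.Ab X}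
    (c : EtFiltr5.ChainTo L C) (hC : Subsingleton (EtCoh.H Y (F.obj C) q)) :
    Subsingleton (EtCoh.H Y (F.obj L) q) := by
  have h : ∀ i, i ≤ c.n → Subsingleton (EtCoh.H Y (F.obj (c.G i)) q) := fun i => by
    induction i with
    | zero => exact fun _ => subsingleton_H_of_isZero (F.map_isZero c.zero) q
    | succ i ih =>
      intro hi
      haveI := c.mono_φ i
      let S := ShortComplex.mk (c.φ i) (cokernel.π (c.φ i)) (cokernel.condition _)
      have hS : S.ShortExact := { exact := ShortComplex.exact_of_g_is_cokernel _ (cokernelIsCokernel _) }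
      obtain ⟨e⟩ := c.coker i hi
      exact GalCd5.subsingleton_H_of_shortExact (hS.map_of_exact F) q (ih (by omega))
        (subsingleton_H_of_iso (F.mapIso e).symm q hC)
  haveI := c.top
  exact subsingleton_H_of_iso (F.mapIso (asIso (c.ι c.n))) q (h c.n le_rfl)

theorem subsingleton_H_of_split {X : Scheme.{u}} {A B : EtCoh.Ab X} (s : A ⟶ B) (r : B ⟶ A) (h : s ≫ r = 𝟙 A)
    (q : ℕ) (hB : Subsingleton (EtCoh.H X B q)) : Subsingleton (EtCoh.H X A q) := by
  refine subsingleton_of_forall_eq 0 fun x => ?_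
  rw [← Ext.comp_mk₀_id x, ← h, ← Ext.mk₀_comp_mk₀]
  rw [← Ext.comp_assoc_of_second_deg_zero, hB.elim (x.comp (Ext.mk₀ s) (add_zero q)) 0, Ext.zero_comp]

section shriek

variable {X U : Scheme.{u}}

/-- direct images with proper support only depend on the morphism -/
def lowerShriekCongr {f g : U ⟶ X} (h : f = g) : EtShriek.lowerShriek f ≅ EtShriek.lowerShriek g := by
  subst h
  exact Iso.refl _

theorem nonempty_extZero_push_iso {U' X' : Scheme.{u}} (π : U' ⟶ U) [IsFinite π] (j : U ⟶ X)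
    [IsOpenImmersion j] [EtShriek.JCont j] (g : U' ⟶ X') [IsOpenImmersion g] [EtShriek.JCont g] (πb : X' ⟶ X)
    [IsFinite πb] (h : g ≫ πb = π ≫ j) :
    Nonempty (EtCoh.push π ⋙ EtShriek.extZero j ≅ EtShriek.extZero g ⋙ EtCoh.push πb) := by
  haveI := Shriek.isIso_shriekToPush π
  haveI := Shriek.isIso_tau j
  exact ⟨(NatIso.hcomp (asIso (Shriek.shriekToPush π)).symm (asIso (Shriek.tau j))) ≪≫ Shriek.shriekComp π j ≪≫
    (Shriek.shriekIso (π ≫ j)).symm ≪≫ lowerShriekCongr h.symm ≪≫ Shriek.compactifyIso g πb⟩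

/-- restriction along an open immersion is `j^{-1}` -/
def restrPullIso (j : U ⟶ X) [IsOpenImmersion j] [EtShriek.JCont j] : EtShriek.restrAlong j ≅ EtCoh.pull j :=
  let a : EtShriek.compEtale j ⊣ EtCoh.bc j :=
    MorphismProperty.Over.mapPullbackAdj EtCoh.etaleMP ⊤ j
      (inferInstanceAs (AlgebraicGeometry.Etale j)) trivial
  (a.sheafPushforwardContinuous (E := AddCommGrpCat.{u + 1}) U.smallEtaleTopology
    X.smallEtaleTopology).leftAdjointUniq (EtCoh.pullPushAdj j)

end shriek

/-- the geometric fibres count the degree -/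
theorem finrank_eq_of_card {T U : Scheme.{u}} (f : T ⟶ U) [IsFinite f] [AlgebraicGeometry.Etale f] (d : ℕ)
    (h : ∀ (Ω : Type u) [Field Ω] [IsAlgClosed Ω] (η : Spec (CommRingCat.of Ω) ⟶ U),
      Nat.card {t : Spec (CommRingCat.of Ω) ⟶ T // t ≫ f = η} = d) (x : U) : f.finrank x = d := by
  obtain ⟨Ω, _, _, η, z, hz⟩ := exists_algClosed_point (EtCoh.top U) x
  rw [← h Ω η, (FinEtTrace5.natCard_lifts f η).2]
  congr 1
  exact hz.symm.trans ((base_of_point z).trans (congrArg η.base (Subsingleton.elim _ _)))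

theorem subsingleton_H_extZero_flc {X U : Scheme.{u}} [IsNoetherian X] (p : ℕ) [Fact p.Prime]
    {d : ℕ} (hv : SVan p X d) [ConnectedSpace U] (j : U ⟶ X) [IsOpenImmersion j]
    [EtShriek.JCont j] (L : EtCoh.Ab U) (hL : EtCoh.IsFiniteLocallyConstant L) (hk : p • 𝟙 L = 0) (q : ℕ)
    (hq : d < q) : Subsingleton (EtCoh.H X ((EtShriek.extZero j).obj L) q) := by
  obtain ⟨r, hr⟩ := EtFiltr5.exists_isRk hL p hk
  obtain ⟨T, f, _, _, e, hcop, hcard, ⟨c⟩⟩ := EtFiltr5.exists_cover_chain p r U L hL hk hr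
  obtain ⟨X', g, πb, _, _, _, hfac⟩ := LocImmLib.exists_openImmersion_finite (f ≫ j)
  haveI := EtFound.jCont f
  haveI := EtFound.jCont g
  haveI := (EtShriek.extZeroAdj g).leftAdjoint_preservesColimits
  haveI : PreservesFiniteColimits (EtShriek.extZero g) := inferInstance
  haveI : PreservesFiniteLimits (EtShriek.extZero g) := EtFound.extZero_preservesFiniteLimits g
  haveI : (EtShriek.extZero g).Additive := Functor.additive_of_preserves_binary_products _
  haveI : PreservesFiniteLimits (EtShriek.extZero j) := EtFound.extZero_preservesFiniteLimits j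
  haveI : (EtShriek.extZero j).Additive := Functor.additive_of_preserves_binary_products _
  have h1 : Subsingleton (EtCoh.H X' ((EtShriek.extZero g).obj ((EtCoh.pull f).obj L)) q) :=
    subsingleton_H_of_chain (EtShriek.extZero g) q c
      (hv X' πb T g q hq)
  obtain ⟨ι⟩ := nonempty_extZero_push_iso f j g πb hfac
  have h2 : Subsingleton (EtCoh.H X ((EtShriek.extZero j).obj ((EtCoh.push f).obj ((EtCoh.pull f).obj L))) q) :=
    subsingleton_H_of_iso (ι.app _).symm q ((GalCd5.subsingleton_H_push_iff πb _ q).2 h1)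
  have htr := FinEtTrace5.trace_comp f L e (finrank_eq_of_card f e hcard)
  obtain ⟨m, k, hm⟩ : ∃ m k : ℕ, m * e = k * p + 1 := by
    obtain ⟨m, -, hm⟩ := Nat.exists_mul_mod_eq_one_of_coprime (Nat.Coprime.symm hcop) (Fact.out : p.Prime).one_lt
    exact ⟨m, e * m / p, by rw [mul_comm m e, mul_comm _ p]; conv_lhs => rw [← Nat.div_add_mod (e * m) p, hm]⟩
  refine subsingleton_H_of_split ((EtShriek.extZero j).map (m • (EtCoh.pullPushAdj f).unit.app L))
    ((EtShriek.extZero j).map ((FinEtTrace5.trAdj f).counit.app L)) ?_ q h2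
  rw [← Functor.map_comp, Preadditive.nsmul_comp, htr, smul_smul, hm, add_smul, mul_smul, hk, smul_zero, zero_add,
    one_smul]
  exact CategoryTheory.Functor.map_id _ _

/-- gluing the vanishing along an open and its complement -/
theorem subsingleton_of_open_closed {X U Z : Scheme.{u}} (j : U ⟶ X) [IsOpenImmersion j] [EtShriek.JCont j]
    (i : Z ⟶ X) [IsClosedImmersion i] (hU : Set.range j.base = (Set.range i.base)ᶜ) (C : EtCoh.Ab X) (q : ℕ)
    (h1 : Subsingleton (EtCoh.H X ((EtShriek.extZero j).obj ((EtCoh.pull j).obj C)) q))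
    (h3 : Subsingleton (EtCoh.H Z ((EtCoh.pull i).obj C) q)) : Subsingleton (EtCoh.H X C q) := by
  obtain ⟨w, hS⟩ := EtFound.recollement_shortExact i j hU C
  exact GalCd5.subsingleton_H_of_shortExact hS q
    (subsingleton_H_of_iso ((EtShriek.extZero j).mapIso ((restrPullIso j).app C)).symm q h1)
    ((GalCd5.subsingleton_H_push_iff i _ q).2 h3)

theorem isZero_of_isEmpty {X : Scheme.{u}} [IsEmpty X] (F : EtCoh.Ab X) : IsZero F :=
  (IsZero.iff_id_eq_zero F).2 (eq_of_stalks _ _ fun _ _ _ ξ => isEmptyElim (ξ.base default))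

/-- a connected open of a nonempty reduced Noetherian scheme on which a constructible sheaf is locally constant -/
theorem exists_open_flc {Z : Scheme.{u}} [IsNoetherian Z] [IsReduced Z] [Nonempty Z] (C : EtCoh.Ab Z)
    (hC : EtPBC.IsConstructible C) :
    ∃ V : Z.Opens, ConnectedSpace V.toScheme ∧ EtCoh.IsFiniteLocallyConstant ((EtCoh.pull V.ι).obj C) := by
  classical
  obtain ⟨n, E, hE, -, hu⟩ := exists_pieces ((isConstructible_iff_adaptedStrata Z C).1 hC)
  obtain ⟨z⟩ := ‹Nonempty Z›
  let Y := irreducibleComponent z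
  have hYirr : IsIrreducible Y := isIrreducible_irreducibleComponent
  obtain ⟨η, hη⟩ := QuasiSober.sober hYirr isClosed_irreducibleComponent
  obtain ⟨i, hi⟩ := Set.mem_iUnion.1 (hu.ge (Set.mem_univ η))
  obtain ⟨O, Cl, hO, hCl, hEi⟩ := (hE i).isLocallyClosed
  have hfin : ((irreducibleComponents ↥Z) \ {Y}).Finite :=
    TopologicalSpace.NoetherianSpace.finite_irreducibleComponents.subset Set.sdiff_subset
  let R : Set Z := ⋃₀ ((irreducibleComponents ↥Z) \ {Y})
  have hRc : IsClosed R := by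
    rw [show R = ⋃ c ∈ ((irreducibleComponents ↥Z) \ {Y}), c from Set.sUnion_eq_biUnion]
    exact hfin.isClosed_biUnion fun c hc => isClosed_of_mem_irreducibleComponents c hc.1
  let V : Z.Opens := ⟨O ∩ Rᶜ, hO.inter hRc.isOpen_compl⟩
  have hηE : η ∈ O ∩ Cl := hEi ▸ hi
  have hηR : η ∉ R := by
    rintro ⟨c, ⟨hc, hcY⟩, hηc⟩
    have hsub : Y ⊆ c := by
      rw [← hη.def]
      exact closure_minimal (Set.singleton_subset_iff.2 hηc) (isClosed_of_mem_irreducibleComponents c hc)
    exact hcY (le_antisymm (irreducibleComponent_mem_irreducibleComponents z |>.2 hc.1 hsub) hsub)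
  have hVY : (V : Set Z) ⊆ Y := fun y hy => by
    by_contra hyY
    exact hy.2 ⟨irreducibleComponent y, ⟨irreducibleComponent_mem_irreducibleComponents y,
      fun h => hyY ((Set.mem_singleton_iff.1 h) ▸ mem_irreducibleComponent)⟩, mem_irreducibleComponent⟩
  have hVE : (V : Set Z) ⊆ E i := fun y hy => by
    rw [hEi]
    refine ⟨hy.1, ?_⟩
    have : Y ⊆ Cl := by
      rw [← hη.def]
      exact closure_minimal (Set.singleton_subset_iff.2 hηE.2) hCl
    exact this (hVY hy)
  have hne : (V : Set Z).Nonempty := ⟨η, hηE.1, hηR⟩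
  have hirr : IsIrreducible (V : Set Z) := ⟨hne, by
    have h := hYirr.isPreirreducible.interior
    intro a b ha hb ⟨y, hy, hya⟩ ⟨y', hy', hyb⟩
    obtain ⟨w, hwY, ⟨hwV, hwa⟩, ⟨-, hwb⟩⟩ := hYirr.isPreirreducible ((V : Set Z) ∩ a) ((V : Set Z) ∩ b)
      (V.2.inter ha) (V.2.inter hb) ⟨y, hVY hy, hy, hya⟩ ⟨y', hVY hy', hy', hyb⟩
    exact ⟨w, hwV, hwa, hwb⟩⟩
  haveI : IrreducibleSpace V.toScheme :=
    { toPreirreducibleSpace := Subtype.preirreducibleSpace hirr.isPreirreducible
      toNonempty := hne.to_subtype }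
  obtain ⟨T, g, hg, hr, hT⟩ := (hE i).mono hVE V.2.isLocallyClosed
  refine ⟨V, inferInstance, ?_⟩
  have hrle : Set.range g.base ⊆ Set.range V.ι.base := by rw [hr, Scheme.Opens.range_ι]
  let g' := IsOpenImmersion.lift V.ι g hrle
  have hg' : g' ≫ V.ι = g := IsOpenImmersion.lift_fac _ _ _
  haveI : IsImmersion (g' ≫ V.ι) := by rw [hg']; exact hg
  haveI : IsImmersion g' := IsImmersion.of_comp g' V.ι
  haveI hsurj : Surjective g' := ⟨fun v => by
    obtain ⟨t, ht⟩ : V.ι.base v ∈ Set.range g.base := by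
      rw [hr, ← Scheme.Opens.range_ι]
      exact ⟨v, rfl⟩
    refine ⟨t, V.ι.isOpenEmbedding.injective ?_⟩
    rw [← ht, ← hg']
    rfl⟩
  haveI : IsClosedImmersion g' := IsClosedImmersion.of_isPreimmersion g' (by
    rw [hsurj.1.range_eq]
    exact isClosed_univ)
  haveI : IsReduced V.toScheme := isReduced_of_isOpenImmersion V.ι
  haveI : IsIso g' := isIso_of_isClosedImmersion_of_surjective g'
  refine EtFound.isFiniteLocallyConstant_of_iso ?_ (EtFound.isFiniteLocallyConstant_pull (inv g') hT)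
  exact ((EtFound.pullCompAb (inv g') g).app C).symm ≪≫
    eqToIso (congrArg (fun k => (EtCoh.pull k).obj C) (show inv g' ≫ g = V.ι by rw [← hg', IsIso.inv_hom_id_assoc]))

theorem vanishing_killed {X : Scheme.{u}} [IsNoetherian X] (p : ℕ) [Fact p.Prime] {d : ℕ}
    (hv : SVan p X d) (S : TopologicalSpace.Closeds X) :
    ∀ (Z : Scheme.{u}) (i : Z ⟶ X) [IsClosedImmersion i], Set.range i.base = S →
      ∀ C : EtCoh.Ab Z, EtPBC.IsConstructible C → p • 𝟙 C = 0 → ∀ q, d < q → Subsingleton (EtCoh.H Z C q) := by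
  induction S using WellFoundedLT.induction with
  | ind S ih =>
    intro Z i _ hS
    haveI : IsLocallyNoetherian Z := LocallyOfFiniteType.isLocallyNoetherian i
    haveI : CompactSpace Z := QuasiCompact.compactSpace_of_compactSpace i
    haveI : IsNoetherian Z := {}
    intro C hC hk q hq
    -- pass to the reduced closed subscheme
    let O₀ : Z.Opens := ⊥
    haveI : IsReduced (cIdeal O₀).subscheme := H23.RedSub.isReduced_vanishingIdeal _
    haveI := EtFound.jCont O₀.ι
    haveI : IsEmpty O₀.toScheme := ⟨fun x => (x.2 : _)⟩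
    haveI : PreservesFiniteLimits (EtShriek.extZero O₀.ι) := EtFound.extZero_preservesFiniteLimits _
    haveI : (EtShriek.extZero O₀.ι).Additive := Functor.additive_of_preserves_binary_products _
    refine subsingleton_of_open_closed O₀.ι (cIdeal O₀).subschemeι (by rw [range_cι, compl_compl, Scheme.Opens.range_ι])
      C q (subsingleton_H_of_isZero ((EtShriek.extZero O₀.ι).map_isZero (isZero_of_isEmpty _)) q) ?_
    let i₀ := (cIdeal O₀).subschemeι ≫ i
    let W := (cIdeal O₀).subscheme
    let C₀ := (EtCoh.pull (cIdeal O₀).subschemeι).obj C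
    haveI := (EtCoh.pullPushAdj (cIdeal O₀).subschemeι).left_adjoint_additive
    have hC₀ : EtPBC.IsConstructible C₀ := EtFound.isConstructible_pull _ hC
    have hk₀ : p • 𝟙 C₀ = 0 := killed_map _ C p hk
    haveI : IsLocallyNoetherian W := LocallyOfFiniteType.isLocallyNoetherian i₀
    haveI : CompactSpace W := QuasiCompact.compactSpace_of_compactSpace i₀
    haveI : IsNoetherian W := {}
    rcases isEmpty_or_nonempty W with hW | hW
    · exact subsingleton_H_of_isZero (isZero_of_isEmpty _) q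
    obtain ⟨V, hV, hflc⟩ := exists_open_flc C₀ hC₀
    haveI := EtFound.jCont V.ι
    haveI := (EtCoh.pullPushAdj V.ι).left_adjoint_additive
    haveI := (EtCoh.pullPushAdj (cIdeal V).subschemeι).left_adjoint_additive
    refine subsingleton_of_open_closed V.ι (cIdeal V).subschemeι (by rw [range_cι, compl_compl, Scheme.Opens.range_ι])
      C₀ q (subsingleton_H_extZero_flc p (svan_of_finite i₀ hv) V.ι _ hflc
        (killed_map _ C₀ p hk₀) q hq) ?_
    let i₁ := (cIdeal V).subschemeι ≫ i₀
    refine ih ⟨Set.range i₁.base, i₁.isClosedEmbedding.isClosed_range⟩ ?_ _ i₁ rfl _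
      (EtFound.isConstructible_pull _ hC₀) (killed_map _ C₀ p hk₀) q hq
    refine lt_of_le_of_ne ?_ ?_
    · show Set.range i₁.base ⊆ (S : Set X)
      rw [← hS]
      exact (Set.range_comp_subset_range (cIdeal V).subschemeι.base i₀.base).trans
        (Set.range_comp_subset_range (cIdeal O₀).subschemeι.base i.base)
    · intro he
      obtain ⟨v⟩ := (inferInstance : Nonempty V.toScheme)
      have hv₀ : i₀.base (V.ι.base v) ∈ Set.range i₁.base := by
        have : i₀.base (V.ι.base v) ∈ (S : Set X) := hS ▸ Set.mem_range_self _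
        rw [← he] at this
        exact this
      obtain ⟨w, hw⟩ := hv₀
      have e := i₀.isClosedEmbedding.injective hw
      have : V.ι.base v ∈ ((V : Set W))ᶜ := (range_cι V).subset ⟨w, e⟩
      exact this v.2

theorem vanishing {X : Scheme.{u}} [IsNoetherian X] (p : ℕ) [Fact p.Prime] {d : ℕ}
    (hv : SVan p X d) : ∀ (a : ℕ) (C : EtCoh.Ab X), EtPBC.IsConstructible C → (p ^ a) • 𝟙 C = 0 →
      ∀ q, d < q → Subsingleton (EtCoh.H X C q)
  | 0, C, _, hk, q, _ => subsingleton_H_of_isZero ((IsZero.iff_id_eq_zero C).2 (by simpa using hk)) q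
  | a + 1, C, hC, hk, q, hq => by
    let m : C ⟶ C := p • 𝟙 C
    let S := ShortComplex.mk (kernel.ι m) (cokernel.π (kernel.ι m)) (cokernel.condition _)
    have hS : S.ShortExact := { exact := ShortComplex.exact_of_g_is_cokernel _ (cokernelIsCokernel _) }
    have hK := EtFound.isConstructible_kernel m hC hC
    refine GalCd5.subsingleton_H_of_shortExact hS q ?_ ?_
    · refine vanishing_killed p hv ⊤ X (𝟙 X) (by simp) _ hK ?_ q hq
      rw [← cancel_mono (kernel.ι m), zero_comp, Preadditive.nsmul_comp, Category.id_comp]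
      have := kernel.condition m
      rwa [Preadditive.comp_nsmul, Category.comp_id] at this
    · refine vanishing p hv a _ (EtFound.isConstructible_cokernel _ hK hC) ?_ q hq
      rw [← cancel_epi (cokernel.π (kernel.ι m)), comp_zero, Preadditive.comp_nsmul, Category.comp_id]
      have hl : ((p ^ a) • 𝟙 C) ≫ m = 0 := by
        rw [Preadditive.comp_nsmul, Category.comp_id, smul_smul, ← pow_succ', hk]
      rw [show (p ^ a) • cokernel.π (kernel.ι m) = ((p ^ a) • 𝟙 C) ≫ cokernel.π (kernel.ι m) by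
        rw [Preadditive.nsmul_comp, Category.id_comp], ← kernel.lift_ι m _ hl, Category.assoc, cokernel.condition,
        comp_zero]

theorem cast_eq_zero_of_over {X : Scheme.{u}} (p : ℕ) [Fact p.Prime]
    (a : X ⟶ Spec (CommRingCat.of (ULift.{u} (ZMod p)))) : (p : Γ(X, ⊤)) = 0 := by
  refine cast_eq_zero_of_hom a ?_
  have h : (p : ULift.{u} (ZMod p)) = 0 := ULift.ext _ _ (ZMod.natCast_self p)
  have := congrArg (Scheme.ΓSpecIso (CommRingCat.of (ULift.{u} (ZMod p)))).inv.hom h
  rw [map_natCast, map_zero] at this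
  exact this

theorem cdp_le (p : ℕ) [Fact p.Prime] (X : Scheme.{u}) [IsNoetherian X] (h0 : (p : Γ(X, ⊤)) = 0) (d : ℕ)
    (hqc : QVan X d) : Dix.CohDimLEAt X p (d + 1) := fun F hF q hq =>
  GalCd5.subsingleton_H_of_constructible (Fact.out : p.Prime) q
    (fun C a hC hk => vanishing p (svan_of_qvan p h0 hqc) a C hC hk q hq) F hF

end Groth.Agent.EtCdp5
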