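import Groth.Agent.EtCdp5.Main
import Groth.Agent.S0469
import Groth.Agent.S0540
import Groth.Agent.S0073
import Groth.Agent.BcQStalk5.Chi
import Groth.Agent.DepthPt5.Main
import Groth.Agent.DimLift.Basic
import Groth.Agent.EtFound.StalkSet

/-! stalks of higher direct images by open immersions of `p`-torsion sheaves in characteristic `p` -/

set_option autoImplicit false
set_option linter.unusedSectionVars false
set_option linter.style.haveILetI false
set_option backward.isDefEq.respectTransparency false
set_option backward.isDefEq.respectTransparency.types false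

universe u

open CategoryTheory CategoryTheory.Limits AlgebraicGeometry Opposite IsLocalRing

noncomputable section

namespace Groth.Agent.EtCdp5

open Groth.Agent.EtFound

attribute [local instance] EtFound.pull_preservesFiniteLimits

theorem natCast_le_pred {a b : ℕ} (h : ((a + 1 : ℕ) : WithBot ℕ∞) ≤ (b + 1 : ℕ)) : (a : WithBot ℕ∞) ≤ b :=
  Nat.cast_le.2 (Nat.le_of_succ_le_succ (Nat.cast_le.1 h))

section order

attribute [local instance] specializationOrder

/-- dropping the closed point of a local scheme lowers the dimension -/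
theorem dim_le_pred {T : Scheme.{u}} {R : Type u} [CommRing R] [IsLocalRing R]
    (i : T ⟶ Spec (CommRingCat.of R)) [IsOpenImmersion i] (h : closedPoint R ∉ Set.range i.base) {d : ℕ}
    (hd : ringKrullDim R ≤ (d + 1 : ℕ)) : topologicalKrullDim T ≤ d := by
  have hS : Order.krullDim ↥(Spec (CommRingCat.of R)) ≤ (d + 1 : ℕ) := by
    refine le_of_eq_of_le ?_ hd
    rw [← PrimeSpectrum.topologicalKrullDim_eq_ringKrullDim]
    exact DimLift.topologicalKrullDim_eq_points.symm
  rw [DimLift.topologicalKrullDim_eq_points]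
  refine iSup_le fun l => ?_
  have hmono : StrictMono (fun t : T => i.base t) := fun a b hab =>
    DimLift.lt_iff_specializes.2 ⟨(DimLift.lt_iff_specializes.1 hab).1.map i.base.hom.continuous,
      fun e => (DimLift.lt_iff_specializes.1 hab).2 (i.isOpenEmbedding.injective e)⟩
  let m := l.map (fun t : T => i.base t) hmono
  let c : ↥(Spec (CommRingCat.of R)) := closedPoint R
  have hlt : c < m.head := DimLift.lt_iff_specializes.2
    ⟨IsLocalRing.specializes_closedPoint (R := R) _, fun e => h ⟨l.head, (LTSeries.head_map l _ hmono).symm.trans e.symm⟩⟩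
  have := (Order.LTSeries.length_le_krullDim (m.cons _ hlt)).trans hS
  have hlen : (m.cons _ hlt).length = l.length + 1 := by simp [RelSeries.cons, RelSeries.append, m]
  rw [hlen] at this
  exact natCast_le_pred this

end order

theorem isZero_stalk_of_eq {X : Scheme.{u}} {F : EtCoh.Ab X} {k k' : Type u} [Field k] [IsSepClosed k] [Field k']
    [IsSepClosed k'] (ξ : Spec (CommRingCat.of k) ⟶ X) (ξ' : Spec (CommRingCat.of k') ⟶ X)
    (h : ξ.base (default : Spec (CommRingCat.of k)) = ξ'.base (default : Spec (CommRingCat.of k')))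
    (hz : IsZero ((EtCoh.stalk ξ).obj F)) : IsZero ((EtCoh.stalk ξ').obj F) := by
  obtain ⟨e⟩ := nonempty_stalk_equiv F ξ ξ' h
  haveI : Subsingleton ((EtCoh.stalk ξ).obj F) := AddCommGrpCat.subsingleton_of_isZero hz
  exact @AddCommGrpCat.isZero_of_subsingleton _ e.symm.subsingleton

/-- `R^b j_* F` vanishes at a point whose local ring has dimension `< b` -/
theorem isZero_stalk_Rpush {X Y : Scheme.{u}} [IsLocallyNoetherian Y] (j : X ⟶ Y) [IsOpenImmersion j] [QuasiCompact j]
    (p : ℕ) [Fact p.Prime] (h0 : (p : Γ(Y, ⊤)) = 0) (F : EtCoh.Ab X) (a : ℕ) (hk : (p ^ a) • 𝟙 F = 0)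
    {b d : ℕ} (hb : 0 < b) (hdb : d < b) {Ω : Type u} [Field Ω] [IsSepClosed Ω]
    (ξ : Spec (CommRingCat.of Ω) ⟶ Y)
    (hd : ringKrullDim (Y.presheaf.stalk (ξ.base (default : Spec (CommRingCat.of Ω)))) ≤ d) :
    IsZero ((EtCoh.stalk ξ).obj ((EtCoh.Rpush j b).obj F)) := by
  generalize hz : ξ.base (default : Spec (CommRingCat.of Ω)) = z at hd
  obtain ⟨R, _, _, _, _, hR⟩ := BcQCalc.exists_strictHens (Y.presheaf.stalk z)
  haveI := hR
  haveI : HenselianLocalRing R := _root_.Hensel.IsStrictHenselization.henselian (R := Y.presheaf.stalk z)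
  haveI : IsSepClosed (ResidueField R) := (_root_.Hensel.IsStrictHenselization.isSepClosure (R := Y.presheaf.stalk z) (S := R)).sep_closed
  haveI : IsNoetherianRing R := (Groth.Agent.S0540.result (Y.presheaf.stalk z) R).1 inferInstance
  have hdR : ringKrullDim R ≤ d :=
    le_of_eq_of_le (Groth.Agent.Hensel.isHenzLike_of_isStrictHenselization (Y.presheaf.stalk z) R).ringKrullDim_eq hd
  obtain ⟨D⟩ := RpushStalk.exists_model Y z R
  let h := Hens2.specOf Y z R
  refine isZero_stalk_of_eq (EtFound.cpt R ≫ h) ξ ?_ ?_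
  · rw [hz, Scheme.Hom.comp_apply]
    exact (congrArg h (EtFound.cpt_base R _)).trans (LocAcycLib.specOf_closedPoint Y z R)
  have hbij := BcQStalk5.bijective_chi (h := h) j D F b
  let T := pullback h j
  have h0T : (p : Γ(T, ⊤)) = 0 := cast_eq_zero_of_hom (pullback.snd h j ≫ j) h0
  haveI : IsLocallyNoetherian T := LocallyOfFiniteType.isLocallyNoetherian (pullback.fst h j)
  haveI : CompactSpace T := QuasiCompact.compactSpace_of_compactSpace (pullback.fst h j)
  haveI : IsNoetherian T := {}
  haveI : SpectralSpace (↥T) := ⟨⟩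
  suffices hH : Subsingleton (EtCoh.H T ((EtCoh.pull (pullback.snd h j)).obj F) b) by
    exact @AddCommGrpCat.isZero_of_subsingleton _ (Function.Injective.subsingleton hbij.1)
  by_cases hmem : closedPoint R ∈ Set.range (pullback.fst h j).base
  · haveI : Surjective (pullback.fst h j) := ⟨fun x =>
      (IsLocalRing.specializes_closedPoint (R := R) x).mem_open (pullback.fst h j).isOpenEmbedding.isOpen_range hmem⟩
    haveI : Epi (pullback.fst h j).base := (TopCat.epi_iff_surjective _).2 (pullback.fst h j).surjective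
    haveI : IsIso (pullback.fst h j) := IsOpenImmersion.isIso (pullback.fst h j)
    haveI := EtFound.jCont (pullback.fst h j)
    exact (GalCd5.subsingleton_H_push_iff (pullback.fst h j) _ b).1
      (Groth.Agent.S0073.result R _ b hb)
  haveI := (EtCoh.pullPushAdj (pullback.snd h j)).left_adjoint_additive
  have hkT := GalCd5.killed_map (EtCoh.pull (pullback.snd h j)) F (p ^ a) hk
  rcases d with _ | d
  · haveI : Ring.KrullDimLE 0 R := Ring.krullDimLE_iff.2 (by simpa using hdR)
    haveI : IsEmpty T := ⟨fun t => hmem ⟨t, PrimeSpectrum.ext (IsLocalRing.eq_maximalIdeal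
      ((pullback.fst h j).base t).isPrime.isMaximal')⟩⟩
    exact subsingleton_H_of_isZero (isZero_of_isEmpty _) b
  · exact cdp_le p T h0T d (fun M _ q hq => @Groth.Agent.S0469.result T.toTopCat ‹SpectralSpace (↥T)› d
      (dim_le_pred (pullback.fst h j) hmem hdR) _ q hq) _ (GalCd5.isLTorsion_of_killed p a hkT) b (by omega)

end Groth.Agent.EtCdp5
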