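import Groth.Agent.EtCdp5.Main
import Groth.Agent.S0469
import Groth.Agent.S0002
import Groth.Agent.QCoh.Support
import Groth.Agent.DimLift.Basic

/-! the cohomological `p`-dimension of a proper scheme over a separably closed field of characteristic `p` -/

set_option autoImplicit false
set_option linter.unusedSectionVars false
set_option linter.style.haveILetI false
set_option backward.isDefEq.respectTransparency false
set_option backward.isDefEq.respectTransparency.types false

universe u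

open CategoryTheory CategoryTheory.Limits AlgebraicGeometry Opposite Abelian

noncomputable section

namespace Groth.Agent.EtCdp5

open Groth.Agent.EtFound Groth.Agent.EtLC12 Groth.Agent.GalCd5

variable {X : Scheme.{u}} (O : X.Opens) (p : ℕ) [Fact p.Prime] (h0 : (p : Γ(X, ⊤)) = 0)

/-- Frobenius on the sheaf of vanishing functions -/
def frobK : K O ⟶ K O := asK O p h0 + 𝟙 _

theorem mulK_frobK (a : Γ(X, ⊤)) : mulK O a ≫ frobK O p h0 = frobK O p h0 ≫ mulK O (a ^ p) := by
  refine Sheaf.hom_ext (NatTrans.ext (funext fun U => AddCommGrpCat.hom_ext (AddMonoidHom.ext fun x => ?_)))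
  refine ULift.ext _ _ (Subtype.ext ?_)
  show (GaLinear.ρ U.unop a * x.down.1) ^ p - GaLinear.ρ U.unop a * x.down.1 + GaLinear.ρ U.unop a * x.down.1 =
    GaLinear.ρ U.unop (a ^ p) * (x.down.1 ^ p - x.down.1 + x.down.1)
  rw [map_pow]
  ring

/-- the comparison, compatibly with global functions -/
theorem exists_equiv_K (n : ℕ) :
    ∃ ε : EtCoh.H X (K O) n ≃+ Coh.HH X (idealMod O) n,
      ∀ (a : Γ(X, ⊤)) (x : EtCoh.H X (K O) n),
        ε (Sheaf.H.map (mulK O a) n x) = Sheaf.H.map (Coh.smulAb (idealMod O) a) n (ε x) := by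
  haveI : EtZar.ZarCont X := EtZarCompare.zarCont X
  obtain ⟨e₁, he₁⟩ := NatCompare.exists_natural_equiv (EtCore.topIsTerminal X) (T₂ := (⊤ : X.Opens))
    (IsTerminal.ofUnique _) (EtZar.resZar X)
    (fun G => (G.obj.mapIso (EtZarCompare.topIso (X := X)).op).addCommGroupIsoToAddEquiv)
    (fun f x => (NatTrans.naturality_apply f.hom (EtZarCompare.topIso (X := X)).op.hom x))
    AffineCartan.IsAffAcyclic
    (fun E hE hI h1 => AffineCartan.isAffAcyclic_X₃ E hE h1 (AffineCartan.isAffAcyclic_of_injective E.X₂))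
    (fun E hE _ h1 => EtZarCompare.shortExact_resZar E hE h1)
    (fun I hI k => haveI := hI; Adeq2Lib.ZarFl.subsingleton_H_of_flq k _ (EtZarCompare.flq_resZar_injective I))
    n _ (isAffAcyclic_K O)
  obtain ⟨e₂, he₂⟩ := NatCompare.exists_natural_equiv (T₁ := (⊤ : X.Opens)) (IsTerminal.ofUnique _)
    (T₂ := (⊤ : X.Opens)) (IsTerminal.ofUnique _) (ZarLift.lift X) (fun G => AddEquiv.ulift.symm) (fun _ _ => rfl)
    (fun _ => True) (fun _ _ _ _ => trivial) (fun _ hE _ _ => ZarLift.shortExact_lift hE)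
    (fun I hI k => haveI := hI; Adeq2Lib.ZarFl.subsingleton_H_of_flq k _ (ZarLift.flq_lift_injective I))
    n (Coh.toAb (idealMod O)) trivial
  obtain ⟨e, he⟩ := exists_resZarIso O
  let i := ((Sheaf.functorH _ n).mapIso e).addCommGroupIsoToAddEquiv
  refine ⟨(e₁.trans i).trans e₂.symm, fun a x => e₂.injective ?_⟩
  have h1 : e₂ (((e₁.trans i).trans e₂.symm) (Sheaf.H.map (mulK O a) n x)) =
      i (e₁ (Sheaf.H.map (mulK O a) n x)) := e₂.apply_symm_apply _
  refine h1.trans ?_
  rw [he₁, he₂]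
  refine Eq.trans ?_ (congrArg (Sheaf.H.map _ n) (e₂.apply_symm_apply _)).symm
  show Sheaf.H.map e.hom n (Sheaf.H.map ((EtZar.resZar X).map (mulK O a)) n (e₁ x)) =
    Sheaf.H.map _ n (Sheaf.H.map e.hom n (e₁ x))
  rw [← Sheaf.H.map_comp_apply, he a, Sheaf.H.map_comp_apply]

theorem isCoh_idealMod [IsLocallyNoetherian X] : Coh.IsCoh (idealMod O) :=
  QCoh.isCoh_of_mono (kernel.ι (toQuot O)) QCoh.isCoh_structureModule' (isQCoh_idealMod O)

theorem asK_surjective {k : Type u} [Field k] [IsSepClosed k] [CharP k p] (f : X ⟶ Spec (CommRingCat.of k))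
    [IsProper f] (n : ℕ) :
    Function.Surjective (Sheaf.H.map (asK O p h0) n : EtCoh.H X (K O) n →+ EtCoh.H X (K O) n) := by
  letI : X.Over (Spec (CommRingCat.of k)) := ⟨f⟩
  haveI : IsProper (X ↘ Spec (CommRingCat.of k)) := ‹IsProper f›
  haveI : IsLocallyNoetherian X := LocallyOfFiniteType.isLocallyNoetherian f
  haveI : Module.Finite k (Coh.HH X (idealMod O) n) := Groth.Agent.S0002.result k X _ (isCoh_idealMod O) n
  obtain ⟨ε, hε⟩ := exists_equiv_K O n
  let T : Coh.HH X (idealMod O) n →+ Coh.HH X (idealMod O) n :=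
    (ε.toAddMonoidHom.comp (Sheaf.H.map (frobK O p h0) n)).comp ε.symm.toAddMonoidHom
  have hT : ∀ (c : k) m, T (c • m) = c ^ p • T m := fun c m => by
    obtain ⟨x, rfl⟩ := ε.surjective m
    let a := Coh.toGlobal (X ↘ Spec (CommRingCat.of k)) c
    have h1 : c • ε x = ε (Sheaf.H.map (mulK O a) n x) := (hε a x).symm
    have hT' : ∀ y, T (ε y) = ε (Sheaf.H.map (frobK O p h0) n y) := fun y =>
      congrArg (fun t => ε (Sheaf.H.map (frobK O p h0) n t)) (ε.symm_apply_apply y)
    rw [h1, hT', hT', ← Sheaf.H.map_comp_apply, mulK_frobK, Sheaf.H.map_comp_apply, hε]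
    show Sheaf.H.map (Coh.smulAb _ (a ^ p)) n _ = Sheaf.H.map (Coh.smulAb _ (Coh.toGlobal _ (c ^ p))) n _
    rw [map_pow]
  intro y
  obtain ⟨m, hm⟩ := GaLinear.sub_id_surjective p _ _ rfl T hT (ε y)
  refine ⟨ε.symm m, ε.injective ?_⟩
  refine Eq.trans ?_ hm
  have hF : Sheaf.H.map (frobK O p h0) n (ε.symm m) = Sheaf.H.map (asK O p h0) n (ε.symm m) + ε.symm m := by
    rw [frobK, Sheaf.H.map_add_apply, Sheaf.H.map_id_apply]
  show _ = ε (Sheaf.H.map (frobK O p h0) n (ε.symm m)) - m
  rw [hF, map_add, AddEquiv.apply_symm_apply, add_sub_cancel_right]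

include h0 in
theorem subsingleton_H_extZero_const_proper {k : Type u} [Field k] [IsSepClosed k] [CharP k p]
    (f : X ⟶ Spec (CommRingCat.of k)) [IsProper f] {d : ℕ} (hd : topologicalKrullDim X ≤ d) {U : Scheme.{u}}
    (j : U ⟶ X) [IsOpenImmersion j] [EtShriek.JCont j] (q : ℕ) (hq : d < q) :
    Subsingleton (EtCoh.H X ((EtShriek.extZero j).obj (EtCoh.const U (ZMod p))) q) := by
  haveI : CompactSpace X := QuasiCompact.compactSpace_of_compactSpace f
  haveI : QuasiSeparatedSpace X := quasiSeparatedSpace_of_quasiSeparated f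
  haveI : SpectralSpace (↥X) := ⟨⟩
  obtain ⟨e⟩ := exists_extZero_const_iso p h0 j
  refine subsingleton_H_of_iso e.symm q ?_
  obtain ⟨n, rfl⟩ : ∃ n, q = n + 1 := ⟨q - 1, by omega⟩
  haveI hK : Subsingleton (EtCoh.H X (K j.opensRange) (n + 1)) := by
    obtain ⟨ε⟩ := nonempty_H_K_equiv j.opensRange (n + 1)
    haveI : Subsingleton (Coh.HH X (idealMod j.opensRange) (n + 1)) :=
      @Groth.Agent.S0469.result X.toTopCat ‹SpectralSpace (↥X)› d hd _ (n + 1) hq
    exact ε.toEquiv.subsingleton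
  refine subsingleton_of_forall_eq 0 fun x => ?_
  have hT := shortExact_T j.opensRange p h0
  obtain ⟨z, rfl⟩ := Ext.covariant_sequence_exact₁ _ hT x (Subsingleton.elim (α := EtCoh.H X (K j.opensRange) (n + 1)) _ _)
    (rfl : n + 1 = n + 1)
  obtain ⟨y, rfl⟩ := asK_surjective j.opensRange p h0 f n z
  rw [Sheaf.H.map_apply, Ext.comp_assoc_of_second_deg_zero]
  exact (congrArg (fun t => Ext.comp y t rfl) hT.comp_extClass).trans (Ext.comp_zero _ _ _ _ _)

omit h0 in
theorem svan_of_proper {k : Type u} [Field k] [IsSepClosed k] [CharP k p]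
    (f : X ⟶ Spec (CommRingCat.of k)) [IsProper f] {d : ℕ} (hd : topologicalKrullDim X ≤ d) : SVan p X d := by
  intro X' π _ U j _ _ q hq
  have h0' : (p : Γ(X', ⊤)) = 0 := by
    have h := congrArg (Coh.toGlobal (π ≫ f)) (CharP.cast_eq_zero k p)
    rwa [map_natCast, map_zero] at h
  refine subsingleton_H_extZero_const_proper p h0' (π ≫ f) (le_trans ?_ hd) j q hq
  exact DimLift.le_of_incomparable π π.continuous fun x x' h he => by
    haveI : DiscreteTopology ↥(π ⁻¹' {π x}) :=
      (isDiscrete_iff_discreteTopology).1 (π.isDiscrete_preimage_singleton (π x))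
    have h' : (⟨x, rfl⟩ : ↥(π ⁻¹' {π x})) ⤳ ⟨x', he.symm⟩ := (subtype_specializes_iff _ _).2 h
    exact congrArg Subtype.val h'.eq

/-- the cohomological `p`-dimension of a proper scheme of dimension `≤ d` -/
theorem cdp_le_proper {k : Type u} [Field k] [IsSepClosed k] [CharP k p]
    (f : X ⟶ Spec (CommRingCat.of k)) [IsProper f] {d : ℕ} (hd : topologicalKrullDim X ≤ d) :
    Dix.CohDimLEAt X p d := fun F hF q hq => by
  haveI : IsLocallyNoetherian X := LocallyOfFiniteType.isLocallyNoetherian f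
  haveI : CompactSpace X := QuasiCompact.compactSpace_of_compactSpace f
  haveI : IsNoetherian X := {}
  exact GalCd5.subsingleton_H_of_constructible (Fact.out : p.Prime) q
    (fun C a hC hk => vanishing p (svan_of_proper p f hd) a C hC hk q hq) F hF

end Groth.Agent.EtCdp5
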