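import Groth.Agent.EtCdp5.Ideal
import Groth.Agent.EtFound.AbRecollement
import Groth.Agent.EtFound.JContGen
import Groth.Agent.EtFound.FLCAb
import Groth.Agent.S18415

/-! the Artin–Schreier sequence of a sheaf extended by zero from an open -/

set_option autoImplicit false
set_option linter.unusedSectionVars false
set_option linter.style.haveILetI false
set_option backward.isDefEq.respectTransparency false
set_option backward.isDefEq.respectTransparency.types false

universe u

open CategoryTheory CategoryTheory.Limits AlgebraicGeometry Opposite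

noncomputable section

namespace Groth.Agent.EtCdp5

open Groth.Agent.EtFound Groth.Agent.EtLC12 W4c5etcohweilstudent

variable {X : Scheme.{u}} (O : X.Opens) (p : ℕ) [Fact p.Prime] (h0 : (p : Γ(X, ⊤)) = 0)

/-- restriction to a basic open, as an étale object -/
abbrev basicEt (V : X.Etale) (r : Γ(V.left, ⊤)) : X.Etale :=
  haveI : AlgebraicGeometry.Etale V.hom := V.prop
  Scheme.Etale.mk ((V.left.basicOpen r).ι ≫ V.hom)

/-- its inclusion -/
abbrev basicHom (V : X.Etale) (r : Γ(V.left, ⊤)) : basicEt V r ⟶ V :=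
  MorphismProperty.Over.homMk (V.left.basicOpen r).ι rfl trivial

theorem isUnit_basicHom (V : X.Etale) (r : Γ(V.left, ⊤)) : IsUnit ((basicHom V r).left.appTop r) := by
  show IsUnit ((V.left.basicOpen r).ι.appTop r)
  have h := (V.left.toRingedSpace.isUnit_res_basicOpen r).map (V.left.basicOpen r).topIso.inv.hom
  rw [Scheme.Opens.ι_appTop]
  convert h using 1
  simp [Scheme.Opens.topIso]
  erw [← ConcreteCategory.comp_apply, ← Functor.map_comp]
  rfl

/-- off `O`, near a point where a `p`-th power fixed function vanishes -/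
theorem mem_basicOpen_pow_pred {V : X.Etale} (t : Γ(V.left, ⊤)) (v : V.left)
    (hv : v ∉ V.left.basicOpen t) : v ∈ V.left.basicOpen (t ^ (p - 1) - 1) := by
  rw [← Scheme.evaluation_ne_zero_iff_mem_basicOpen _ _ (TopologicalSpace.Opens.mem_top v)] at hv ⊢
  rw [not_not] at hv
  rw [map_sub, map_pow, map_one, hv, zero_pow (Nat.sub_ne_zero_of_lt (Fact.out : p.Prime).one_lt), zero_sub]
  exact neg_ne_zero.2 one_ne_zero

theorem exists_phi_sub_vanish {V : X.Etale} (t : Γ(V.left, ⊤)) (v : V.left)
    (hv : v ∉ V.left.basicOpen (t ^ p - t)) :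
    ∃ i, v ∉ V.left.basicOpen (t - ArtinSchreier.φ p _ (natCast_eq_zero_etale p h0 V) i) := by
  simp only [← Scheme.evaluation_ne_zero_iff_mem_basicOpen _ _ (TopologicalSpace.Opens.mem_top v), not_not] at hv ⊢
  let ev := (V.left.evaluation ⊤ v trivial).hom
  have hk : (p : V.left.residueField v) = 0 := by
    rw [← map_natCast ev, natCast_eq_zero_etale p h0 V, map_zero]
  obtain ⟨i, hi⟩ := ArtinSchreier.exists_eq_φ p hk (ev t) (sub_eq_zero.1 (by rw [← map_pow, ← map_sub]; exact hv))
  refine ⟨i, ?_⟩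
  show ev _ = 0
  rw [map_sub, ArtinSchreier.map_φ p ev _ hk, hi, sub_self]

theorem epi_asK : Epi (asK O p h0) := by
  have hp : p.Prime := Fact.out
  refine (Sheaf.isLocallySurjective_iff_epi' _ _).1 ⟨fun {V} s => ?_⟩
  rw [mem_topology_iff]
  intro x
  haveI : Epi (artinSchreierEndo X p hp h0) := Groth.Agent.S18415.result p hp h0
  have hs := (Sheaf.isLocallySurjective_iff_epi' AddCommGrpCat.{u + 1} (artinSchreierEndo X p hp h0)).2 inferInstance
  obtain ⟨W, g, w, ⟨⟨t⟩, ht⟩, hw⟩ := (mem_topology_iff _).1 (hs.imageSieve_mem (U := V) (ULift.up s.down.1)) x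
  change Γ(W.left, ⊤) at t
  have ht' : t ^ p - t = g.left.appTop s.down.1 := congrArg ULift.down ht
  have hW : t ^ p - t ∈ vanI O W := by rw [ht']; exact map_mem_vanI O g s.down.2
  by_cases hwO : W.hom.base w ∈ O
  · haveI : AlgebraicGeometry.Etale W.hom := W.prop
    let W₁ : X.Etale := Scheme.Etale.mk ((W.hom ⁻¹ᵁ O).ι ≫ W.hom)
    let k : W₁ ⟶ W := MorphismProperty.Over.homMk (W.hom ⁻¹ᵁ O).ι rfl trivial
    refine ⟨W₁, k ≫ g, ⟨w, hwO⟩, ⟨ULift.up ⟨k.left.appTop t, fun z _ => z.2⟩, ULift.ext _ _ (Subtype.ext ?_)⟩, hw⟩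
    show (k.left.appTop t) ^ p - k.left.appTop t = (k ≫ g).left.appTop s.down.1
    rw [MorphismProperty.Comma.comp_left, Scheme.Hom.comp_appTop]
    show _ = k.left.appTop (g.left.appTop s.down.1)
    rw [← ht', map_sub, map_pow]
  · obtain ⟨i, hi⟩ := exists_phi_sub_vanish p h0 t w (fun h => hwO (hW h))
    let c := ArtinSchreier.φ p _ (natCast_eq_zero_etale p h0 W) i
    let t' := t - c
    have ht'' : t' ^ p - t' = t ^ p - t := by
      have := map_sub (asHom Γ(W.left, ⊤) p hp (natCast_eq_zero_etale p h0 W)) t c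
      rw [asHom_apply, asHom_apply, asHom_apply] at this
      rw [this, ArtinSchreier.φ_pow, sub_self, sub_zero]
    let r := t' ^ (p - 1) - 1
    have hr : t' * r = t ^ p - t := by
      rw [mul_sub, mul_one, ← pow_succ', Nat.sub_add_cancel hp.one_le, ht'']
    refine ⟨basicEt W r, basicHom W r ≫ g, ⟨w, mem_basicOpen_pow_pred p t' w hi⟩,
      ⟨ULift.up ⟨(basicHom W r).left.appTop t', ?_⟩, ULift.ext _ _ (Subtype.ext ?_)⟩, hw⟩
    · refine (Ideal.mul_unit_mem_iff_mem _ (isUnit_basicHom W r)).1 ?_
      rw [← map_mul, hr]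
      exact map_mem_vanI O _ hW
    · show ((basicHom W r).left.appTop t') ^ p - (basicHom W r).left.appTop t' = (basicHom W r ≫ g).left.appTop s.down.1
      rw [MorphismProperty.Comma.comp_left, Scheme.Hom.comp_appTop]
      show _ = (basicHom W r).left.appTop (g.left.appTop s.down.1)
      rw [← ht', ← ht'', map_sub ((basicHom W r).left.appTop).hom (t' ^ p), map_pow]

/-- the kernel -/
abbrev T : EtCoh.Ab X := kernel (asK O p h0)

theorem shortExact_T : (ShortComplex.mk (kernel.ι (asK O p h0)) (asK O p h0) (kernel.condition _)).ShortExact :=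
  haveI := epi_asK O p h0
  { exact := ShortComplex.exact_of_f_is_kernel _ (kernelIsKernel _) }

theorem isZero_stalk_T {Ω : Type u} [Field Ω] [IsSepClosed Ω] (ξ : Spec (CommRingCat.of Ω) ⟶ X)
    (hξ : ξ.base (default : Spec (CommRingCat.of Ω)) ∉ O) : IsZero ((EtCoh.stalk ξ).obj (T O p h0)) := by
  haveI : LocallySmall.{u + 1} X.Etale := ⟨fun _ _ => inferInstance⟩
  refine @AddCommGrpCat.isZero_of_subsingleton _ (subsingleton_of_forall_eq 0 fun q => ?_)
  obtain ⟨V, v, k, rfl⟩ := (Scheme.pointSmallEtale ξ).toPresheafFiber_jointly_surjective q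
  let a : Γ(V.left, ⊤) := (((kernel.ι (asK O p h0)).hom.app (op V)).hom k).down.1
  have ha : a ∈ vanI O V := (((kernel.ι (asK O p h0)).hom.app (op V)).hom k).down.2
  have hap : a ^ p - a = 0 := congrArg (fun z => z.down.1)
    (congrArg (fun t : T O p h0 ⟶ K O => (t.hom.app (op V)).hom k) (kernel.condition _))
  let v₀ := (v.left : Spec (CommRingCat.of Ω) ⟶ V.left).base (default : Spec (CommRingCat.of Ω))
  have hv₀ : v₀ ∉ V.left.basicOpen a := fun h => hξ (by
    have e : V.hom.base v₀ = ξ.base (default : Spec (CommRingCat.of Ω)) := base_of_point v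
    rw [← e]
    exact ha h)
  let r := a ^ (p - 1) - 1
  obtain ⟨v', hv', -⟩ := exists_lift_point (basicHom V r) v ⟨v₀, mem_basicOpen_pow_pred p a v₀ hv₀⟩ rfl
  subst hv'
  rw [← (Scheme.pointSmallEtale ξ).toPresheafFiber_w_apply (basicHom V r) v']
  refine (congrArg _ (?_ : (T O p h0).obj.map (basicHom V r).op k = 0)).trans (map_zero _)
  refine SiteBase.sheaf_app_injective (kernel.ι (asK O p h0)) _ ?_
  rw [map_zero]
  refine (NatTrans.naturality_apply (kernel.ι (asK O p h0)).hom (basicHom V r).op k).trans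
    (ULift.ext _ _ (Subtype.ext ?_))
  refine (isUnit_basicHom V r).mul_left_eq_zero.1 ?_
  show (basicHom V r).left.appTop a * (basicHom V r).left.appTop r = 0
  rw [← map_mul, mul_sub, mul_one, ← pow_succ', Nat.sub_add_cancel (Fact.out : p.Prime).one_le, hap, map_zero]

section open_

variable {U : Scheme.{u}} (j : U ⟶ X) [IsOpenImmersion j] [EtShriek.JCont j]

theorem vanI_eq_top (Z : U.Etale) : vanI j.opensRange ((EtShriek.compEtale j).obj Z) = ⊤ :=
  (eq_top_iff).2 fun a _ z _ => ⟨Z.hom.base z, rfl⟩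

/-- over the open every function vanishes outside it -/
def restrKIso : (EtShriek.restrAlong j).obj (K j.opensRange) ≅ EtCoh.Ga U :=
  (fullyFaithfulSheafToPresheaf _ _).preimageIso (NatIso.ofComponents
    (fun Z => AddEquiv.toAddCommGrpIso
      { toFun := fun a => ULift.up a.down.1
        invFun := fun a => ULift.up ⟨a.down, (vanI_eq_top j Z.unop).ge Submodule.mem_top⟩
        left_inv := fun a => rfl
        right_inv := fun a => rfl
        map_add' := fun a b => rfl })
    fun g => AddCommGrpCat.ext fun a => rfl)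

theorem restrKIso_as (h0U : (p : Γ(U, ⊤)) = 0) :
    (EtShriek.restrAlong j).map (asK j.opensRange p h0) ≫ (restrKIso j).hom =
      (restrKIso j).hom ≫ ArtinSchreier.as p h0U :=
  Sheaf.hom_ext (NatTrans.ext (funext fun Z => AddCommGrpCat.ext fun a => rfl))

theorem exists_extZero_const_iso :
    Nonempty ((EtShriek.extZero j).obj (EtCoh.const U (ZMod p)) ≅ T j.opensRange p h0) := by
  have h0U : (p : Γ(U, ⊤)) = 0 := by
    have := congrArg j.appTop h0
    simpa using this
  haveI := extZero_iso_of_outside j (T j.opensRange p h0) fun Ω _ _ ξ hξ =>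
    isZero_stalk_T j.opensRange p h0 ξ fun h => hξ h
  haveI : PreservesLimitsOfSize.{0, 0} (EtShriek.restrAlong j) :=
    (EtShriek.extZeroAdj j).rightAdjoint_preservesLimits
  haveI : (EtShriek.restrAlong j).Additive := Functor.additive_of_preserves_binary_products _
  let e : (EtShriek.restrAlong j).obj (T j.opensRange p h0) ≅ EtCoh.const U (ZMod p) :=
    PreservesKernel.iso _ _ ≪≫
      kernel.mapIso _ _ (restrKIso j) (restrKIso j) (restrKIso_as p h0 j h0U) ≪≫
      (asIso (ArtinSchreier.constToKer p h0U)).symm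
  exact ⟨(EtShriek.extZero j).mapIso e.symm ≪≫ asIso ((EtShriek.extZeroAdj j).counit.app (T j.opensRange p h0))⟩

end open_

end Groth.Agent.EtCdp5
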