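import Groth.Agent.EtCdp5.Ideal
import Groth.Agent.EtLC12.GaAmitsur
import Groth.Agent.EtLC12.AmitsurMod
import Groth.Agent.Hensel.EtaleReduced
import Mathlib.RingTheory.TensorProduct.Quotient
import Mathlib.AlgebraicGeometry.AffineScheme

/-! the sheaf of vanishing functions has no higher Čech cohomology on affine objects -/

set_option autoImplicit false
set_option linter.unusedSectionVars false
set_option linter.style.haveILetI false
set_option backward.isDefEq.respectTransparency false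
set_option backward.isDefEq.respectTransparency.types false

universe u

open CategoryTheory CategoryTheory.Limits AlgebraicGeometry Opposite
open scoped TensorProduct

noncomputable section

namespace Groth.Agent.EtCdp5

open Groth.Agent.EtFound Groth.Agent.DescLib Groth.Agent.EtLC12

variable {X : Scheme.{u}} (O : X.Opens)

theorem isRadical_vanI (Z : X.Etale) : (vanI O Z).IsRadical := fun a ⟨n, hn⟩ => by
  rcases Nat.eq_zero_or_pos n with rfl | hn0
  · rw [pow_zero, ← Ideal.eq_top_iff_one] at hn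
    rw [hn]
    exact Submodule.mem_top
  · show Z.left.basicOpen a ≤ _
    rw [← Z.left.basicOpen_pow a hn0]
    exact hn

section alg

variable {R S : Type u} [CommRing R] [CommRing S] [Algebra R S] [Algebra.Etale R S]

/-- étale algebras preserve radical ideals -/
theorem isRadical_map_of_etale (J : Ideal R) (hJ : J.IsRadical) : (J.map (algebraMap R S)).IsRadical := by
  haveI : _root_.IsReduced (R ⧸ J) := (Ideal.isRadical_iff_quotient_reduced J).1 hJ
  haveI : _root_.IsReduced ((R ⧸ J) ⊗[R] S) := Hensel.isReduced_of_etale (R ⧸ J) _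
  let e : (R ⧸ J) ⊗[R] S ≃+* S ⧸ J.map (algebraMap R S) :=
    ((Algebra.TensorProduct.comm R (R ⧸ J) S).trans
      ((Algebra.TensorProduct.quotIdealMapEquivTensorQuot S J).symm.restrictScalars R)).toRingEquiv
  exact (Ideal.isRadical_iff_quotient_reduced _).2 (isReduced_of_injective e.symm e.symm.injective)

end alg

variable {U : X.Etale}

theorem vanI_eq_map [IsAffine U.left] (Z : Over U) [IsAffine Z.left.left] :
    vanI O Z.left = (vanI O U).map (algebraMap Γ(U.left, ⊤) (GaAmitsur.Sec Z)) := by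
  refine le_antisymm (fun (a : Γ(Z.left.left, ⊤)) ha => ?_)
    (Ideal.map_le_iff_le_comap.2 fun r hr => map_mem_vanI O Z.hom hr)
  haveI := GaAmitsur.etale_sec Z
  suffices h : (a : GaAmitsur.Sec Z) ∈
      ((vanI O U).map (algebraMap Γ(U.left, ⊤) (GaAmitsur.Sec Z))).radical from
    (isRadical_map_of_etale (S := GaAmitsur.Sec Z) (vanI O U) (isRadical_vanI O U)) h
  rw [Ideal.radical_eq_sInf]
  refine (Ideal.mem_sInf (R := GaAmitsur.Sec Z)).2 ?_
  intro Q hQ
  obtain ⟨hJP, hP⟩ := hQ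
  let P : Ideal Γ(Z.left.left, ⊤) := Q
  change P.IsPrime at hP
  by_contra haQ
  have haP : a ∉ P := haQ
  let hZ := isAffineOpen_top Z.left.left
  let z : Z.left.left := hZ.fromSpec.base ⟨P, hP⟩
  have hmem : ∀ f : Γ(Z.left.left, ⊤), z ∈ Z.left.left.basicOpen f ↔ f ∉ P := fun f => by
    show (⟨P, hP⟩ : PrimeSpectrum _) ∈ hZ.fromSpec ⁻¹ᵁ Z.left.left.basicOpen f ↔ _
    rw [hZ.fromSpec_preimage_basicOpen]
    rfl
  have hu : U.hom.base (Z.hom.left.base z) ∈ O := by
    rw [hom_base Z.hom z]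
    exact ha ((hmem a).2 haP)
  obtain ⟨r, hr, hzr⟩ := (isAffineOpen_top U.left).exists_basicOpen_le
    (⟨Z.hom.left.base z, hu⟩ : U.hom ⁻¹ᵁ O) (TopologicalSpace.Opens.mem_top _)
  refine (hmem (Z.hom.left.appTop r)).1 ?_ (hJP (Ideal.mem_map_of_mem _ (hr : r ∈ vanI O U)))
  exact (Scheme.preimage_basicOpen_top (Z.hom.left : Z.left.left ⟶ U.left) r).le hzr

/-- multiplication -/
def Ψ (Z : Over U) : GaAmitsur.Sec Z ⊗[Γ(U.left, ⊤)] (vanI O U) →ₗ[Γ(U.left, ⊤)] GaAmitsur.Sec Z :=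
  (TensorProduct.rid Γ(U.left, ⊤) (GaAmitsur.Sec Z)).toLinearMap ∘ₗ
    LinearMap.lTensor (GaAmitsur.Sec Z) (vanI O U).subtype

theorem Ψ_injective [IsAffine U.left] (Z : Over U) [IsAffine Z.left.left] : Function.Injective (Ψ O Z) := by
  haveI := GaAmitsur.etale_sec Z
  exact (TensorProduct.rid Γ(U.left, ⊤) (GaAmitsur.Sec Z)).injective.comp
    (Module.Flat.lTensor_preserves_injective_linearMap _ Subtype.val_injective)

theorem range_Ψ [IsAffine U.left] (Z : Over U) [IsAffine Z.left.left] (a : Γ(Z.left.left, ⊤)) :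
    (∃ y, Ψ O Z y = a) ↔ a ∈ vanI O Z.left := by
  rw [vanI_eq_map O Z]
  constructor
  · rintro ⟨y, rfl⟩
    induction y using TensorProduct.induction_on with
    | zero => rw [map_zero]; exact Ideal.zero_mem _
    | add b c hb hc => rw [map_add]; exact Ideal.add_mem _ hb hc
    | tmul s m =>
      show (m : Γ(U.left, ⊤)) • (s : GaAmitsur.Sec Z) ∈ _
      rw [Algebra.smul_def]
      exact Ideal.mul_mem_right _ _ (Ideal.mem_map_of_mem _ m.2)
  · intro ha
    show a ∈ LinearMap.range (Ψ O Z)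
    have h : ((vanI O U).map (algebraMap Γ(U.left, ⊤) (GaAmitsur.Sec Z))).restrictScalars Γ(U.left, ⊤) ≤
        LinearMap.range (Ψ O Z) := by
      rw [← Ideal.smul_top_eq_map]
      exact Submodule.smul_le.2 fun r hr s _ => ⟨s ⊗ₜ ⟨r, hr⟩, rfl⟩
    exact h ha

theorem Ψ_natural {Z Z' : Over U} (f : Z' ⟶ Z) (x : GaAmitsur.Sec Z ⊗[Γ(U.left, ⊤)] (vanI O U)) :
    Ψ O Z' ((GaAmitsur.secMap f).toLinearMap.rTensor _ x) = GaAmitsur.secMap f (Ψ O Z x) := by
  induction x using TensorProduct.induction_on with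
  | zero => simp
  | add a b ha hb => simp only [map_add, ha, hb]
  | tmul s m =>
    show (m : Γ(U.left, ⊤)) • GaAmitsur.secMap f s = GaAmitsur.secMap f ((m : Γ(U.left, ⊤)) • s)
    rw [map_smul]

lemma val_sum {Z : X.Etale} {n : ℕ} (f : Fin n → (K O).obj.obj (op Z)) :
    (∑ j, f j).down.1 = ∑ j, (f j).down.1 :=
  map_sum (((vanI O Z).subtype.toAddMonoidHom).comp
    (AddEquiv.ulift.{u, u + 1} (α := vanI O Z)).toAddMonoidHom) f Finset.univ

theorem isAffAcyclic_K : AffineCartan.IsAffAcyclic (K O) := by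
  intro U _ Y hU hY hs p
  haveI := hs
  haveI := GaAmitsur.faithfullyFlat_sec U Y
  haveI : LocallySmall.{u + 1} X.Etale := ⟨fun _ _ => inferInstance⟩
  let M := vanI O U
  let P : ℕ → Over U := fun n => ∏ᶜ fun _ : Fin (n + 1) => Y
  let G : ∀ n, AmitsurAll.T Γ(U.left, ⊤) (GaAmitsur.Sec Y) n ⊗[Γ(U.left, ⊤)] M →ₗ[Γ(U.left, ⊤)] GaAmitsur.Sec (P n) :=
    fun n => Ψ O (P n) ∘ₗ (GaAmitsur.Φ Y n).toLinearMap.rTensor M
  haveI hP : ∀ n, IsAffine (P n).left.left := fun n => AffineCartan.isAffine_prod n (fun _ => Y) fun _ => hY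
  have hG : ∀ n, Function.Injective (G n) ∧ ∀ a, (∃ y, G n y = a) ↔ a ∈ vanI O (P n).left := fun n => by
    let e := TensorProduct.congr (LinearEquiv.ofBijective (GaAmitsur.Φ Y n).toLinearMap
      ⟨Function.LeftInverse.injective (g := fun z => GaAmitsur.qSec Y n (GaAmitsur.secMap (GaAmitsur.σ Y n) z))
        (GaAmitsur.left_inv Y n),
        Function.RightInverse.surjective (GaAmitsur.right_inv Y n)⟩) (LinearEquiv.refl Γ(U.left, ⊤) M)
    have he : ∀ y, (GaAmitsur.Φ Y n).toLinearMap.rTensor M y = e y := fun y => by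
      induction y using TensorProduct.induction_on with
      | zero => simp
      | add b c hb hc => simp only [map_add, hb, hc]
      | tmul s m => rfl
    refine ⟨fun a b h => ?_, fun a => ⟨fun ⟨y, hy⟩ => (range_Ψ O (P n) a).1 ⟨_, hy⟩, fun h => ?_⟩⟩
    · exact e.injective ((he a).symm.trans ((Ψ_injective O (P n) h).trans (he b)))
    · obtain ⟨y, hy⟩ := (range_Ψ O (P n) a).2 h
      exact ⟨e.symm y, by show Ψ O (P n) _ = _; rw [he, e.apply_symm_apply, hy]⟩
  have hD : ∀ (n : ℕ) y, G (n + 1) (AmitsurMod.DM _ _ M n y) =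
      ∑ j : Fin (n + 2), (-1 : ℤ) ^ (j : ℕ) • GaAmitsur.secMap (GaAmitsur.tm Y n j) (G n y) := by
    intro n y
    show Ψ O _ ((GaAmitsur.Φ Y (n + 1)).toLinearMap.rTensor M _) = _
    rw [AmitsurMod.DM_apply, map_sum, map_sum]
    refine Finset.sum_congr rfl fun j _ => ?_
    rw [map_zsmul, map_zsmul]
    congr 1
    show _ = GaAmitsur.secMap (GaAmitsur.tm Y n j) (Ψ O _ ((GaAmitsur.Φ Y n).toLinearMap.rTensor M y))
    rw [← Ψ_natural, ← LinearMap.rTensor_comp_apply, ← LinearMap.rTensor_comp_apply]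
    congr 3
    exact LinearMap.ext fun t => GaAmitsur.Φ_face Y n j t
  refine (HomologicalComplex.exactAt_iff_isZero_homology _ _).1 ?_
  rw [HomologicalComplex.exactAt_iff' _ p (p + 1) (p + 2) (by simp) (by simp), ShortComplex.ab_exact_iff]
  intro (x : (EtCech.cechComplex (fun _ : PUnit.{u + 2} => Y) (K O).obj).X (p + 1))
    (hx : ((EtCech.cechComplex (fun _ : PUnit.{u + 2} => Y) (K O).obj).d (p + 1) (p + 2)).hom x = 0)
  let v := (CechInjGen.cev (fun _ : PUnit.{u + 2} => Y) (K O).obj (p + 1) (fun _ => ⟨⟩) x).down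
  obtain ⟨y, hy⟩ := ((hG (p + 1)).2 v.1).2 v.2
  have hy0 : AmitsurMod.DM Γ(U.left, ⊤) (GaAmitsur.Sec Y) M (p + 1) y = 0 := by
    refine (hG (p + 2)).1 ?_
    rw [hD, map_zero, hy]
    refine Eq.trans ?_ (congrArg (fun z => z.down.1) ((congrArg (CechInjGen.cev (fun _ : PUnit.{u + 2} => Y)
      (K O).obj (p + 2) (fun _ => ⟨⟩)) hx).trans (map_zero _)))
    rw [CechInjGen.cev_d]
    refine Eq.trans (Finset.sum_congr rfl fun j _ => ?_) (val_sum O (Z := (∏ᶜ fun _ : Fin (p + 3) => Y).left) _).symm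
    rfl
  obtain ⟨w, hw⟩ := AmitsurMod.exact_DM M p y hy0
  obtain ⟨z, hz⟩ := CechInjGen.exists_cev (fun _ : PUnit.{u + 2} => Y) (K O).obj (n := p)
    fun _ => ULift.up ⟨G p w, ((hG p).2 _).1 ⟨w, rfl⟩⟩
  refine ⟨z, CechInjGen.cev_ext _ _ fun i => ?_⟩
  refine (CechInjGen.cev_d _ _ p i z).trans (ULift.down_injective (Subtype.ext ?_))
  refine (val_sum O (Z := (∏ᶜ fun _ : Fin (p + 2) => Y).left) _).trans ?_
  refine Eq.trans ?_ ((congrArg (G (p + 1)) hw).trans hy)
  rw [hD]
  refine Finset.sum_congr rfl fun j _ => ?_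
  rw [hz]
  rfl

end Groth.Agent.EtCdp5
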