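import Groth.Agent.EtCdp5.Main
import Groth.Agent.S0103
import Groth.Agent.S14381

/-! finite locally constant `p`-torsion sheaves on affine schemes of characteristic `p` -/

set_option autoImplicit false
set_option linter.unusedSectionVars false
set_option linter.style.haveILetI false
set_option backward.isDefEq.respectTransparency false
set_option backward.isDefEq.respectTransparency.types false

universe u

open CategoryTheory CategoryTheory.Limits AlgebraicGeometry Opposite Abelian

noncomputable section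

namespace Groth.Agent.EtCdp5

open Groth.Agent.EtFound Groth.Agent.GalCd5

attribute [local instance] EtFound.pull_preservesFiniteLimits

theorem subsingleton_H_flc_killed {X : Scheme.{u}} [IsAffine X] [ConnectedSpace X] (p : ℕ) [Fact p.Prime]
    (h0 : (p : Γ(X, ⊤)) = 0) (L : EtCoh.Ab X) (hL : EtCoh.IsFiniteLocallyConstant L) (hk : p • 𝟙 L = 0) (q : ℕ)
    (hq : 2 ≤ q) : Subsingleton (EtCoh.H X L q) := by
  obtain ⟨r, hr⟩ := EtFiltr5.exists_isRk hL p hk
  obtain ⟨T, f, _, _, e, hcop, hcard, ⟨c⟩⟩ := EtFiltr5.exists_cover_chain p r X L hL hk hr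
  haveI := EtFound.jCont f
  haveI : IsAffine T := isAffine_of_isAffineHom f
  have h1 : Subsingleton (EtCoh.H T ((EtCoh.pull f).obj L) q) := by
    refine subsingleton_H_of_chain (𝟭 (EtCoh.Ab T)) q c ?_
    rcases subsingleton_or_nontrivial Γ(T, ⊤) with hs | hs
    · haveI : IsEmpty T := by
        haveI : IsEmpty (Spec Γ(T, ⊤)) := inferInstanceAs (IsEmpty (PrimeSpectrum Γ(T, ⊤)))
        exact T.isoSpec.hom.homeomorph.toEquiv.isEmpty
      exact subsingleton_H_of_isZero (isZero_of_isEmpty _) q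
    · haveI : CharP Γ(T, ⊤) p := by
        obtain ⟨r', hr'⟩ := CharP.exists Γ(T, ⊤)
        have h := (CharP.cast_eq_zero_iff Γ(T, ⊤) r' p).1 (cast_eq_zero_of_hom f h0)
        rcases (Fact.out : p.Prime).eq_one_or_self_of_dvd r' h with rfl | rfl
        · exact absurd hr' (fun _ => CharP.char_ne_one Γ(T, ⊤) 1 rfl)
        · exact hr'
      exact Groth.Agent.S0103.result T p q hq
  have h2 := (GalCd5.subsingleton_H_push_iff f _ q).2 h1
  have htr := FinEtTrace5.trace_comp f L e (finrank_eq_of_card f e hcard)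
  obtain ⟨m, k, hm⟩ : ∃ m k : ℕ, m * e = k * p + 1 := by
    obtain ⟨m, -, hm⟩ := Nat.exists_mul_mod_eq_one_of_coprime (Nat.Coprime.symm hcop) (Fact.out : p.Prime).one_lt
    exact ⟨m, e * m / p, by rw [mul_comm m e, mul_comm _ p]; conv_lhs => rw [← Nat.div_add_mod (e * m) p, hm]⟩
  refine subsingleton_H_of_split (m • (EtCoh.pullPushAdj f).unit.app L) ((FinEtTrace5.trAdj f).counit.app L) ?_ q h2
  rw [Preadditive.nsmul_comp, htr, smul_smul, hm, add_smul, mul_smul, hk, smul_zero, zero_add, one_smul]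
  all_goals rfl

theorem subsingleton_H_flc {X : Scheme.{u}} [IsAffine X] [ConnectedSpace X] (p : ℕ) [Fact p.Prime]
    (h0 : (p : Γ(X, ⊤)) = 0) : ∀ (a : ℕ) (L : EtCoh.Ab X), EtCoh.IsFiniteLocallyConstant L → (p ^ a) • 𝟙 L = 0 →
      ∀ q, 2 ≤ q → Subsingleton (EtCoh.H X L q)
  | 0, C, _, hk, q, _ => subsingleton_H_of_isZero ((IsZero.iff_id_eq_zero C).2 (by simpa using hk)) q
  | a + 1, C, hC, hk, q, hq => by
    let m : C ⟶ C := p • 𝟙 C
    let S := ShortComplex.mk (kernel.ι m) (cokernel.π (kernel.ι m)) (cokernel.condition _)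
    have hS : S.ShortExact := { exact := ShortComplex.exact_of_g_is_cokernel _ (cokernelIsCokernel _) }
    have hK : EtCoh.IsFiniteLocallyConstant (kernel m) := EtFound.isFiniteLocallyConstant_of_kernel
      (S := ShortComplex.mk (kernel.ι m) m (kernel.condition _))
      (ShortComplex.exact_of_f_is_kernel _ (kernelIsKernel _)) hC hC
    have hQ : EtCoh.IsFiniteLocallyConstant (cokernel (kernel.ι m)) :=
      EtFound.isFiniteLocallyConstant_of_cokernel (S := S) hS.exact hK hC
    refine GalCd5.subsingleton_H_of_shortExact hS q ?_ ?_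
    · refine subsingleton_H_flc_killed p h0 _ hK ?_ q hq
      rw [← cancel_mono (kernel.ι m), zero_comp, Preadditive.nsmul_comp, Category.id_comp]
      have := kernel.condition m
      rwa [Preadditive.comp_nsmul, Category.comp_id] at this
    · refine subsingleton_H_flc p h0 a _ hQ ?_ q hq
      rw [← cancel_epi (cokernel.π (kernel.ι m)), comp_zero, Preadditive.comp_nsmul, Category.comp_id]
      have hl : ((p ^ a) • 𝟙 C) ≫ m = 0 := by
        rw [Preadditive.comp_nsmul, Category.comp_id, smul_smul, ← pow_succ', hk]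
      rw [show (p ^ a) • cokernel.π (kernel.ι m) = ((p ^ a) • 𝟙 C) ≫ cokernel.π (kernel.ι m) by
        rw [Preadditive.nsmul_comp, Category.id_comp], ← kernel.lift_ι m _ hl, Category.assoc, cokernel.condition,
        comp_zero]

theorem isKPi1 {X : Scheme.{u}} [IsAffine X] [ConnectedSpace X] (p : ℕ) [Fact p.Prime]
    (h0 : (p : Γ(X, ⊤)) = 0) (F : EtCoh.Ab X) (hF : EtCoh.IsFiniteLocallyConstant F)
    (htor : ∃ h : ℕ, EtCoh.KilledBy (p ^ h) F) (q : ℕ) (hq : 0 < q) (ζ : EtCoh.H X F q) :
    ∃ (X' : Scheme.{u}) (g : X' ⟶ X), IsFinite g ∧ AlgebraicGeometry.Etale g ∧ Surjective g ∧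
      ∀ [PreservesFiniteLimits (EtCoh.pull g)], EtCore.Hpull g F q ζ = 0 := by
  obtain ⟨h, hh⟩ := htor
  rcases (by omega : q = 1 ∨ 2 ≤ q) with rfl | hq2
  · haveI : Finite (_root_.ConnectedComponents ↥X) := Finite.of_subsingleton
    exact Groth.Agent.S14381.result X inferInstance F hF ⟨p ^ h, pow_pos (Fact.out : p.Prime).pos h, hh⟩ ζ
  · haveI := subsingleton_H_flc p h0 h F hF (EtFiltr5.killed_of_killedBy hh) q hq2
    refine ⟨X, 𝟙 X, inferInstance, inferInstance, inferInstance, ?_⟩
    intro _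
    rw [Subsingleton.elim ζ 0, map_zero]

end Groth.Agent.EtCdp5
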