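import Groth.Agent.EtLC12.ArtinSchreier
import Groth.Agent.EtFound.Basic
import Groth.Agent.EtFound.OpenSubterminal

/-! the subsheaf of `G_a` of the functions vanishing outside an open -/

set_option autoImplicit false
set_option linter.unusedSectionVars false
set_option backward.isDefEq.respectTransparency false
set_option backward.isDefEq.respectTransparency.types false

universe u

open CategoryTheory CategoryTheory.Limits AlgebraicGeometry Opposite

noncomputable section

namespace Groth.Agent.EtCdp5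

open Groth.Agent.EtFound Groth.Agent.EtLC12

variable {X : Scheme.{u}} (O : X.Opens)

/-- functions vanishing (pointwise) off `O` -/
def vanI (Z : X.Etale) : Ideal Γ(Z.left, ⊤) where
  carrier := {a | Z.left.basicOpen a ≤ Z.hom ⁻¹ᵁ O}
  add_mem' {a b} ha hb := (Z.left.basicOpen_add_le a b).trans (sup_le ha hb)
  zero_mem' := by
    show Z.left.basicOpen (0 : Γ(Z.left, ⊤)) ≤ _
    rw [Scheme.basicOpen_zero]
    exact bot_le
  smul_mem' r a ha := by
    show Z.left.basicOpen (r * a) ≤ _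
    rw [Scheme.basicOpen_mul]
    exact inf_le_right.trans ha

theorem mem_vanI {Z : X.Etale} {a : Γ(Z.left, ⊤)} : a ∈ vanI O Z ↔ Z.left.basicOpen a ≤ Z.hom ⁻¹ᵁ O := Iff.rfl

theorem hom_base {Z Z' : X.Etale} (g : Z' ⟶ Z) (z : Z'.left) : Z.hom.base (g.left.base z) = Z'.hom.base z := by
  rw [← MorphismProperty.Over.w g]
  rfl

theorem map_mem_vanI {Z Z' : X.Etale} (g : Z' ⟶ Z) {a : Γ(Z.left, ⊤)} (ha : a ∈ vanI O Z) :
    g.left.appTop a ∈ vanI O Z' := fun z hz => by
  have h : z ∈ (g.left : Z'.left ⟶ Z.left) ⁻¹ᵁ Z.left.basicOpen a :=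
    (Scheme.preimage_basicOpen_top (g.left : Z'.left ⟶ Z.left) a).ge hz
  show Z'.hom.base z ∈ O
  rw [← hom_base g z]
  exact ha h

/-- being in `vanI` is local -/
theorem mem_vanI_of_local {V : X.Etale} (a : Γ(V.left, ⊤))
    (h : ∀ v : V.left, ∃ (W : X.Etale) (g : W ⟶ V) (w : W.left), g.left.base w = v ∧ g.left.appTop a ∈ vanI O W) :
    a ∈ vanI O V := fun v hv => by
  obtain ⟨W, g, w, rfl, hw⟩ := h v
  have h' : w ∈ W.left.basicOpen (g.left.appTop a) :=
    (Scheme.preimage_basicOpen_top (g.left : W.left ⟶ V.left) a).le hv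
  show V.hom.base (g.left.base w) ∈ O
  rw [hom_base g w]
  exact hw h'

/-- the presheaf -/
def idealPre : X.Etaleᵒᵖ ⥤ AddCommGrpCat.{u + 1} where
  obj V := AddCommGrpCat.of (ULift.{u + 1} (vanI O V.unop))
  map g := AddCommGrpCat.ofHom
    (AddMonoidHom.mk' (fun a => ULift.up ⟨g.unop.left.appTop a.down.1, map_mem_vanI O g.unop a.down.2⟩)
      fun a b => ULift.ext _ _ (Subtype.ext (map_add g.unop.left.appTop.hom a.down.1 b.down.1)))
  map_id V := AddCommGrpCat.ext fun a => ULift.ext _ _ (Subtype.ext rfl)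
  map_comp f g := AddCommGrpCat.ext fun a => ULift.ext _ _ (Subtype.ext (by
    show (g.unop ≫ f.unop).left.appTop a.down.1 = g.unop.left.appTop (f.unop.left.appTop a.down.1)
    rw [MorphismProperty.Comma.comp_left, Scheme.Hom.comp_appTop]
    rfl))

theorem isSheaf_idealPre : Presheaf.IsSheaf X.smallEtaleTopology (idealPre O) := by
  rw [Presheaf.isSheaf_iff_isSheaf_forget _ _ (forget AddCommGrpCat.{u + 1}), isSheaf_iff_isSheaf_of_type]
  intro V R hR x hx
  have hG := (isSheaf_iff_isSheaf_of_type _ _).1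
    ((Presheaf.isSheaf_iff_isSheaf_forget X.smallEtaleTopology (EtCoh.Ga X).obj (forget AddCommGrpCat.{u + 1})).1
      (EtCoh.Ga X).2) R hR
  obtain ⟨t, ht, huniq⟩ := hG (fun W g hg => ULift.up (x g hg).down.1) fun Y₁ Y₂ Z g₁ g₂ f₁ f₂ h₁ h₂ he =>
    congrArg ULift.up (congrArg (fun z => z.down.1) (hx g₁ g₂ h₁ h₂ he))
  have htP : t.down ∈ vanI O V := mem_vanI_of_local O t.down fun v => by
    obtain ⟨W, g, w, hg, hw⟩ := (mem_topology_iff R).1 hR v
    refine ⟨W, g, w, hw, ?_⟩
    rw [show g.left.appTop t.down = (x g hg).down.1 from congrArg ULift.down (ht g hg)]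
    exact (x g hg).down.2
  refine ⟨ULift.up ⟨t.down, htP⟩, fun W g hg => ULift.ext _ _ (Subtype.ext (congrArg ULift.down (ht g hg))),
    fun t' ht' => ULift.ext _ _ (Subtype.ext (congrArg ULift.down (huniq (ULift.up t'.down.1) fun W g hg => ?_)))⟩
  exact congrArg ULift.up (congrArg (fun z => z.down.1) (ht' g hg))

/-- the sheaf -/
def K : EtCoh.Ab X := ⟨idealPre O, isSheaf_idealPre O⟩

/-- the inclusion into `G_a` -/
def Kι : K O ⟶ EtCoh.Ga X :=
  ⟨{ app := fun V => AddCommGrpCat.ofHom (AddMonoidHom.mk' (fun a => ULift.up a.down.1) fun _ _ => rfl)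
     naturality := fun _ _ g => rfl }⟩

theorem mono_Kι : Mono (Kι O) := by
  haveI : ∀ V, Mono ((Kι O).hom.app V) := fun V => (AddCommGrpCat.mono_iff_injective _).2 fun a b h =>
    ULift.ext _ _ (Subtype.ext (congrArg (fun z : ULift.{u + 1} Γ(V.unop.left, ⊤) => z.down) h))
  haveI : Mono (Kι O).hom := NatTrans.mono_of_mono_app _
  exact (sheafToPresheaf _ _).mono_of_mono_map this

variable (p : ℕ) [Fact p.Prime] (h0 : (p : Γ(X, ⊤)) = 0)

theorem pow_sub_mem {Z : X.Etale} {a : Γ(Z.left, ⊤)} (ha : a ∈ vanI O Z) : a ^ p - a ∈ vanI O Z :=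
  sub_mem (Ideal.pow_mem_of_mem _ ha _ (Fact.out : p.Prime).pos) ha

/-- `F - 1` on the vanishing sheaf -/
def asK : K O ⟶ K O :=
  ⟨{ app := fun V => AddCommGrpCat.ofHom (AddMonoidHom.mk'
      (fun a => ULift.up ⟨a.down.1 ^ p - a.down.1, pow_sub_mem O p a.down.2⟩) fun a b => ULift.ext _ _ (Subtype.ext
        (congrArg (fun z : ULift.{u + 1} Γ(V.unop.left, ⊤) => z.down)
          (map_add ((ArtinSchreier.as p h0).hom.app V).hom (ULift.up a.down.1) (ULift.up b.down.1)))))
     naturality := fun V W g => AddCommGrpCat.ext fun a => ULift.ext _ _ (Subtype.ext (by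
       show (g.unop.left.appTop a.down.1) ^ p - g.unop.left.appTop a.down.1 = g.unop.left.appTop (a.down.1 ^ p - a.down.1)
       rw [map_sub, map_pow])) }⟩

theorem asK_ι : asK O p h0 ≫ Kι O = Kι O ≫ ArtinSchreier.as p h0 :=
  Sheaf.hom_ext (NatTrans.ext (funext fun V => AddCommGrpCat.ext fun a => rfl))

end Groth.Agent.EtCdp5
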