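import Groth.Agent.GalCd5.Main
import Groth.Agent.SiteBase.Horseshoe

/-! vanishing from the Leray spectral sequence -/

set_option autoImplicit false
set_option linter.unusedSectionVars false
set_option linter.style.haveILetI false
set_option backward.isDefEq.respectTransparency false
set_option backward.isDefEq.respectTransparency.types false

universe u

open CategoryTheory CategoryTheory.Limits AlgebraicGeometry Opposite Abelian

noncomputable section

namespace Groth.Agent.EtCdp5

open Groth.Agent.GalCd5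

attribute [local instance] EtFound.pull_preservesFiniteLimits

variable {X Y : Scheme.{u}} (f : X ⟶ Y)

theorem subsingleton_H_injective (I : EtCoh.Ab Y) [Injective I] (n : ℕ) : Subsingleton (EtCoh.H Y I (n + 1)) :=
  subsingleton_of_forall_eq 0 fun x => Ext.eq_zero_of_injective x

theorem injective_push (I : EtCoh.Ab X) [Injective I] : Injective ((EtCoh.push f).obj I) :=
  (EtCoh.pullPushAdj f).map_injective I inferInstance

/-- global sections of a direct image detect global sections upstairs -/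
theorem surjective_H0_of_push {A B : EtCoh.Ab X} (g : A ⟶ B)
    (h : ∀ x : EtCoh.H Y ((EtCoh.push f).obj B) 0,
      ∃ y : EtCoh.H Y ((EtCoh.push f).obj A) 0, y.comp (Ext.mk₀ ((EtCoh.push f).map g)) (zero_add 0) = x)
    (x : EtCoh.H X B 0) : ∃ y : EtCoh.H X A 0, y.comp (Ext.mk₀ g) (zero_add 0) = x := by
  obtain ⟨φ, rfl⟩ := (Ext.mk₀_bijective _ _).2 x
  let c := EtCore.pullConst f ℤ
  obtain ⟨y, hy⟩ := h (Ext.mk₀ ((EtCoh.pullPushAdj f).homEquiv _ _ (c.hom ≫ φ)))
  obtain ⟨χ, rfl⟩ := (Ext.mk₀_bijective _ _).2 y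
  rw [Ext.mk₀_comp_mk₀] at hy
  refine ⟨Ext.mk₀ (c.inv ≫ ((EtCoh.pullPushAdj f).homEquiv _ _).symm χ), ?_⟩
  rw [Ext.mk₀_comp_mk₀, Category.assoc, ← (EtCoh.pullPushAdj f).homEquiv_naturality_right_symm,
    (Ext.mk₀_bijective _ _).1 hy, Equiv.symm_apply_apply, Iso.inv_hom_id_assoc]

theorem isZero_rightDerived_inj (I : EtCoh.Ab X) [Injective I] (b : ℕ) : IsZero ((EtCoh.Rpush f (b + 1)).obj I) :=
  (EtCoh.push f).isZero_rightDerived_obj_injective_succ b I

/-- the Leray vanishing criterion -/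
theorem subsingleton_H_of_leray : ∀ (N : ℕ), 0 < N → ∀ G : EtCoh.Ab X,
    Subsingleton (EtCoh.H Y ((EtCoh.push f).obj G) N) →
    (∀ a b : ℕ, 0 < b → a + b = N → Subsingleton (EtCoh.H Y ((EtCoh.Rpush f b).obj G) a)) →
    Subsingleton (EtCoh.H X G N) := by
  intro N
  induction N with
  | zero => exact fun h => absurd h (lt_irrefl 0)
  | succ M ih =>
    intro _ G h0 hb
    haveI : (EtCoh.push f).IsRightAdjoint := (EtCoh.pullPushAdj f).isRightAdjoint
    haveI : PreservesFiniteLimits (EtCoh.push f) := inferInstance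
    let L := SESResLib.derivedLES (EtCoh.push f)
    let P := Classical.arbitrary (InjectivePresentation G)
    have hS := P.shortExact_shortComplex
    let g : P.J ⟶ cokernel P.f := P.shortComplex.g
    haveI := P.injective
    haveI := injective_push f P.J
    let e := (EtCoh.push f).rightDerivedZeroIsoSelf
    let δ : (EtCoh.push f).obj (cokernel P.f) ⟶ (EtCoh.Rpush f 1).obj G :=
      e.inv.app _ ≫ L.δ _ hS 0 1 rfl
    have hgδ : (EtCoh.push f).map g ≫ δ = 0 := by
      show _ ≫ e.inv.app _ ≫ _ = 0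
      rw [← Category.assoc, e.inv.naturality g, Category.assoc]
      exact (congrArg (e.inv.app _ ≫ ·) (L.comp_δ _ hS 0 1 rfl)).trans comp_zero
    have hex : (ShortComplex.mk ((EtCoh.push f).map g) δ hgδ).Exact := by
      refine ShortComplex.exact_of_iso (S₁ := ShortComplex.mk _ _ (L.comp_δ _ hS 0 1 rfl))
        (ShortComplex.isoMk (e.app _) (e.app _) (Iso.refl _) ?_ ?_)
        (L.exact₃ _ hS 0 1 rfl)
      · exact (e.hom.naturality g).symm
      · show e.hom.app _ ≫ e.inv.app _ ≫ _ = _ ≫ 𝟙 _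
        rw [e.hom_inv_id_app_assoc, Category.comp_id]
    haveI : Epi (L.δ _ hS 0 1 rfl) :=
      (L.exact₁ _ hS 0 1 rfl).epi_f ((isZero_rightDerived_inj f P.J 0).eq_of_tgt _ _)
    haveI : Epi δ := epi_comp _ _
    let ψ : (EtCoh.push f).obj P.J ⟶ kernel δ := kernel.lift δ ((EtCoh.push f).map g) hgδ
    haveI : Epi ψ := hex.epi_kernelLift
    let S' := P.shortComplex.map (EtCoh.push f)
    haveI : Mono ((EtCoh.push f).map P.f) := inferInstance
    have hψ0 : (EtCoh.push f).map P.f ≫ ψ = 0 := by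
      rw [← cancel_mono (kernel.ι δ), Category.assoc, kernel.lift_ι, zero_comp]
      exact S'.zero
    have hA : (ShortComplex.mk ((EtCoh.push f).map P.f) ψ hψ0).ShortExact := by
      have h1 : S'.Exact := hS.exact.map_of_mono_of_preservesKernel (EtCoh.push f) hS.mono_f inferInstance
      refine { exact := ?_ }
      refine (ShortComplex.exact_iff_of_epi_of_isIso_of_mono (S₁ := ShortComplex.mk _ ψ hψ0) (S₂ := S')
        { τ₁ := 𝟙 _, τ₂ := 𝟙 _, τ₃ := kernel.ι δ, comm₁₂ := by simp [S'], comm₂₃ := by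
            show 𝟙 _ ≫ (EtCoh.push f).map g = ψ ≫ kernel.ι δ
            rw [Category.id_comp, kernel.lift_ι] }).2 h1
    have hK : (ShortComplex.mk (kernel.ι δ) δ (kernel.condition δ)).ShortExact :=
      { exact := ShortComplex.exact_of_f_is_kernel _ (kernelIsKernel _) }
    refine subsingleton_of_forall_eq 0 fun x => ?_
    obtain ⟨z, rfl⟩ := Ext.covariant_sequence_exact₁ _ hS x
      ((subsingleton_H_injective P.J M).elim _ _) (rfl : M + 1 = M + 1)
    rcases Nat.eq_zero_or_pos M with rfl | hM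
    · obtain ⟨y, rfl⟩ := surjective_H0_of_push f g (fun w => by
        obtain ⟨w', rfl⟩ := Ext.covariant_sequence_exact₂ _ hK w ((hb 0 1 one_pos rfl).elim _ _)
        obtain ⟨v, rfl⟩ := Ext.covariant_sequence_exact₃ _ hA w' (rfl : 0 + 1 = 1) (h0.elim _ _)
        exact ⟨v, by rw [Ext.comp_assoc_of_third_deg_zero, Ext.mk₀_comp_mk₀, kernel.lift_ι]⟩) z
      rw [Ext.comp_assoc_of_second_deg_zero]
      exact (congrArg (fun t => Ext.comp y t rfl) hS.comp_extClass).trans (Ext.comp_zero _ _ _ _ _)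
    · have hK' : Subsingleton (EtCoh.H Y (kernel δ) M) := by
        refine subsingleton_of_forall_eq 0 fun v => ?_
        obtain ⟨w, rfl⟩ := Ext.covariant_sequence_exact₃ _ hA v (rfl : M + 1 = M + 1) (h0.elim _ _)
        obtain ⟨M', rfl⟩ : ∃ M', M = M' + 1 := ⟨M - 1, by omega⟩
        rw [(subsingleton_H_injective ((EtCoh.push f).obj P.J) M').elim w 0, Ext.zero_comp]
      have h1 : Subsingleton (EtCoh.H X (cokernel P.f) M) := by
        refine ih hM _ (GalCd5.subsingleton_H_of_shortExact hK M hK' (hb M 1 one_pos rfl)) fun a b hb0 hab => ?_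
        obtain ⟨b', rfl⟩ : ∃ b', b = b' + 1 := ⟨b - 1, by omega⟩
        haveI : Mono (L.δ _ hS (b' + 1) (b' + 2) rfl) :=
          (L.exact₃ _ hS (b' + 1) (b' + 2) rfl).mono_g ((isZero_rightDerived_inj f P.J b').eq_of_src _ _)
        haveI : Epi (L.δ _ hS (b' + 1) (b' + 2) rfl) :=
          (L.exact₁ _ hS (b' + 1) (b' + 2) rfl).epi_f ((isZero_rightDerived_inj f P.J (b' + 1)).eq_of_tgt _ _)
        haveI : IsIso (L.δ _ hS (b' + 1) (b' + 2) rfl) := isIso_of_mono_of_epi _
        exact subsingleton_H_of_iso (asIso (L.δ _ hS (b' + 1) (b' + 2) rfl)).symm a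
          (hb a (b' + 2) (by omega) (by omega))
      rw [h1.elim z 0, Ext.zero_comp]

end Groth.Agent.EtCdp5
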