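import Groth.Agent.EtCdp5.Support
import Groth.Agent.EtCdp5.RpushVan
import Groth.Agent.EtCdp5.Leray
import Groth.Agent.BMLib.Dim
import Groth.Agent.PicGlue.CurveBoundary
import Groth.Agent.PnCoh.Chow.Closed

/-! the cohomological `p`-dimension of open subschemes of proper schemes -/

set_option autoImplicit false
set_option linter.unusedSectionVars false
set_option linter.style.haveILetI false
set_option backward.isDefEq.respectTransparency false
set_option backward.isDefEq.respectTransparency.types false

universe u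

open CategoryTheory CategoryTheory.Limits AlgebraicGeometry Opposite Abelian

noncomputable section

namespace Groth.Agent.EtCdp5

open Groth.Agent.EtFound Groth.Agent.GalCd5

attribute [local instance] EtFound.pull_preservesFiniteLimits

theorem enat_sub_le {h c : ℕ∞} {n b : ℕ} (hc : (b : ℕ∞) ≤ c) (hs : h + c ≤ (n : ℕ∞)) :
    (h : WithBot ℕ∞) ≤ ((n - b : ℕ) : WithBot ℕ∞) := by
  have h5 : h + (b : ℕ∞) ≤ (n : ℕ∞) := le_trans (add_le_add le_rfl hc) hs
  obtain ⟨a, rfl⟩ := ENat.ne_top_iff_exists.1 (show h ≠ ⊤ from fun e => by simp [e] at h5)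
  have h6 : a + b ≤ n := by exact_mod_cast h5
  exact WithBot.coe_le_coe.2 (Nat.cast_le.2 (show a ≤ n - b by omega))

theorem natCast_lt_of_coe {d b : ℕ} (h : (d : ℕ∞) < (b : ℕ∞)) : d < b := Nat.cast_lt.1 h

section order

attribute [local instance] specializationOrder

/-- the dimension of a point and of its local ring add up to at most the dimension -/
theorem dim_closure_le {X : Scheme.{u}} (z : X) {n b : ℕ} (hn : topologicalKrullDim X ≤ n) (hb : b ≤ n)
    (hz : ∀ d < b, ¬ ringKrullDim (X.presheaf.stalk z) ≤ d) :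
    topologicalKrullDim (closure ({z} : Set X) : Set X) ≤ (n - b : ℕ) := by
  have h1 : (b : ℕ∞) ≤ Order.coheight z := by
    by_contra hlt
    rw [not_le] at hlt
    obtain ⟨d, hd⟩ := ENat.ne_top_iff_exists.1 hlt.ne_top
    rw [← hd] at hlt
    refine hz d (natCast_lt_of_coe hlt) ?_
    rw [ringKrullDim_stalk_eq_coheight, ← hd]
    exact le_rfl
  rw [BMLib.topologicalKrullDim_closure_singleton]
  haveI : Nonempty ↥X := ⟨z⟩
  have h3 : ((Order.height z + Order.coheight z : ℕ∞) : WithBot ℕ∞) ≤ (n : WithBot ℕ∞) := by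
    refine le_trans ?_ hn
    rw [BMLib.krullDim_points, Order.krullDim_eq_iSup_height_add_coheight_of_nonempty, WithBot.coe_le_coe]
    exact le_iSup (fun a : ↥X => Order.height a + Order.coheight a) z
  have h4 : Order.height z + Order.coheight z ≤ (n : ℕ∞) := WithBot.coe_le_coe.1 h3
  exact enat_sub_le h1 h4

end order

/-- open subschemes of proper schemes -/
theorem cdp_le_of_openImmersion {k : Type u} [Field k] [IsSepClosed k] (p : ℕ) [Fact p.Prime] [CharP k p]
    {X Y : Scheme.{u}} (g : Y ⟶ Spec (CommRingCat.of k)) [IsProper g] (j : X ⟶ Y) [IsOpenImmersion j]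
    [QuasiCompact j] {n : ℕ} (hn : topologicalKrullDim Y ≤ n) : Dix.CohDimLEAt X p n := by
  intro F hF q hq
  haveI : IsLocallyNoetherian Y := LocallyOfFiniteType.isLocallyNoetherian g
  haveI : CompactSpace Y := QuasiCompact.compactSpace_of_compactSpace g
  haveI : IsLocallyNoetherian X := LocallyOfFiniteType.isLocallyNoetherian j
  haveI : CompactSpace X := QuasiCompact.compactSpace_of_compactSpace j
  haveI : IsNoetherian X := {}
  have h0 : (p : Γ(Y, ⊤)) = 0 := by
    have h := congrArg (Coh.toGlobal g) (CharP.cast_eq_zero k p)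
    rwa [map_natCast, map_zero] at h
  refine GalCd5.subsingleton_H_of_constructible (Fact.out : p.Prime) q (fun C a _ hk => ?_) F hF
  haveI : (EtCoh.push j).IsRightAdjoint := (EtCoh.pullPushAdj j).isRightAdjoint
  haveI : (EtCoh.push j).Additive := (EtCoh.pullPushAdj j).right_adjoint_additive
  refine subsingleton_H_of_leray j q (by omega) C
    (cdp_le_proper p g hn _ (GalCd5.isLTorsion_of_killed p a (GalCd5.killed_map _ C (p ^ a) hk)) q hq)
    fun c b hb hcb => ?_
  have hz : ∀ (Ω : Type u) [Field Ω] [IsSepClosed Ω] (ξ : Spec (CommRingCat.of Ω) ⟶ Y),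
      ¬ IsZero ((EtCoh.stalk ξ).obj ((EtCoh.Rpush j b).obj C)) → ∀ d < b,
      ¬ ringKrullDim (Y.presheaf.stalk (ξ.base (default : Spec (CommRingCat.of Ω)))) ≤ d :=
    fun Ω _ _ ξ hξ d hd hdim => hξ (isZero_stalk_Rpush j p h0 C a hk hb hd ξ hdim)
  rcases Nat.lt_or_ge n b with hnb | hnb
  · refine subsingleton_H_of_isZero ((isZero_iff_stalks _).2 fun Ω _ _ ξ => ?_) c
    refine isZero_stalk_Rpush j p h0 C a hk hb hnb ξ ?_
    rw [ringKrullDim_stalk_eq_coheight]
    exact le_trans (Order.coheight_le_krullDim _) (le_of_eq_of_le BMLib.krullDim_points.symm hn)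
  · exact subsingleton_H_of_support p g _
      (GalCd5.isLTorsion_of_killed p a (GalCd5.killed_map (EtCoh.Rpush j b) C (p ^ a) hk)) (n - b)
      (fun Ω _ _ ξ hξ => dim_closure_le _ hn hnb (hz Ω ξ hξ)) c (by omega)

/-- quasi-projective schemes -/
theorem cdp_le_qproj {k : Type u} [Field k] [IsSepClosed k] (p : ℕ) [Fact p.Prime] [CharP k p]
    {X : Scheme.{u}} {N : ℕ} (i : X ⟶ CohB1.ProjSpaceOver N (Spec (CommRingCat.of k))) [IsImmersion i]
    {n : ℕ} (hn : topologicalKrullDim X ≤ n) : Dix.CohDimLEAt X p n := by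
  let S := Spec (CommRingCat.of k)
  haveI : IsProper (CohB1.ProjSpaceOver.toBase N S) := by
    haveI : IsProper (CohB1.ProjSpace.toSpec N (ULift.{u} ℤ)) := PnCoh.Chow.isProper_toSpec N _
    exact MorphismProperty.pullback_snd (P := @IsProper) _ _ inferInstance
  let P := CohB1.ProjSpaceOver N S
  haveI : IsLocallyNoetherian P := LocallyOfFiniteType.isLocallyNoetherian (CohB1.ProjSpaceOver.toBase N S)
  haveI : CompactSpace P := QuasiCompact.compactSpace_of_compactSpace (CohB1.ProjSpaceOver.toBase N S)
  haveI : IsNoetherian P := {}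
  haveI : TopologicalSpace.NoetherianSpace X := i.isEmbedding.isInducing.noetherianSpace
  haveI : QuasiCompact i := ⟨fun s _ _ => TopologicalSpace.NoetherianSpace.isCompact _⟩
  let g : i.image ⟶ S := i.imageι ≫ CohB1.ProjSpaceOver.toBase N S
  haveI : IsProper g := MorphismProperty.comp_mem @IsProper _ _ inferInstance inferInstance
  haveI : IsLocallyNoetherian i.image := LocallyOfFiniteType.isLocallyNoetherian i.imageι
  haveI : CompactSpace i.image := QuasiCompact.compactSpace_of_compactSpace i.imageι
  haveI : IsNoetherian i.image := {}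
  haveI : QuasiCompact i.toImage := inferInstance
  exact cdp_le_of_openImmersion p g i.toImage
    (le_trans (PicGlue.topologicalKrullDim_le_of_dense g i.toImage i.toImage.denseRange) hn)

end Groth.Agent.EtCdp5
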